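import Mathlib
import Cfsg.Prelude.Def_PLocal
import Cfsg.Agent.Lib.Thompson.Replacement

/-!
Finite groups acting on a finite abelian group: fixed points, commutators, restriction, quotient,
Timmesfeld's replacement.
-/

set_option autoImplicit false
set_option linter.unusedVariables false
set_option linter.unusedSectionVars false
set_option linter.style.haveILetI false

namespace Cfsg.Agent.Thompson.PGV

variable {G : Type*} [Group G] {V : Type*} [AddCommGroup V] (ρ : G →* AddMonoid.End V)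

theorem act_mul (g h : G) (v : V) : ρ (g * h) v = ρ g (ρ h v) := by rw [map_mul]; rfl

theorem act_one (v : V) : ρ 1 v = v := by rw [map_one]; rfl

theorem act_inv_self (g : G) (v : V) : ρ g⁻¹ (ρ g v) = v := by
  rw [← act_mul, inv_mul_cancel, act_one]

theorem act_self_inv (g : G) (v : V) : ρ g (ρ g⁻¹ v) = v := by
  rw [← act_mul, mul_inv_cancel, act_one]

theorem act_comm {g h : G} (hgh : g * h = h * g) (v : V) : ρ g (ρ h v) = ρ h (ρ g v) := by
  rw [← act_mul, hgh, act_mul]

/-- `g - 1`. -/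
def dlt (g : G) : AddMonoid.End V := ρ g - 1

@[simp] theorem dlt_apply (g : G) (v : V) : dlt ρ g v = ρ g v - v := rfl

theorem dlt_comm {g h : G} (hgh : g * h = h * g) (v : V) :
    dlt ρ g (ρ h v) = ρ h (dlt ρ g v) := by
  rw [dlt_apply, dlt_apply, map_sub, act_comm ρ hgh]

theorem dlt_mul (g h : G) (v : V) : dlt ρ (g * h) v = dlt ρ g v + ρ g (dlt ρ h v) := by
  simp only [dlt_apply, act_mul, map_sub]
  abel

/-- Elements fixing a set pointwise. -/
def stab (X : AddSubgroup V) : Subgroup G where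
  carrier := {g | ∀ x ∈ X, ρ g x = x}
  one_mem' x _ := act_one ρ x
  mul_mem' {g h} hg hh x hx := by rw [act_mul, hh x hx, hg x hx]
  inv_mem' {g} hg x hx := by
    conv_lhs => rw [← hg x hx]
    exact act_inv_self ρ g x

/-- Elements trivial modulo a subgroup. -/
def trivMod (Y : AddSubgroup V) : Subgroup G where
  carrier := {g | ∀ v, dlt ρ g v ∈ Y}
  one_mem' v := by simp [dlt_apply]
  mul_mem' {g h} hg hh v := by
    have e : dlt ρ (g * h) v = dlt ρ g (ρ h v) + dlt ρ h v := by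
      simp only [dlt_apply, act_mul]
      abel
    rw [e]
    exact Y.add_mem (hg _) (hh v)
  inv_mem' {g} hg v := by
    have e : dlt ρ g⁻¹ v = - dlt ρ g (ρ g⁻¹ v) := by
      simp only [dlt_apply, act_self_inv ρ]
      abel
    rw [e]
    exact Y.neg_mem (hg _)

theorem mem_stab {X : AddSubgroup V} {g : G} : g ∈ stab ρ X ↔ ∀ x ∈ X, ρ g x = x := Iff.rfl

theorem mem_trivMod {Y : AddSubgroup V} {g : G} : g ∈ trivMod ρ Y ↔ ∀ v, ρ g v - v ∈ Y := Iff.rfl

/-- Fixed points of a subgroup. -/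
def fix (B : Subgroup G) : AddSubgroup V where
  carrier := {v | ∀ b ∈ B, ρ b v = v}
  zero_mem' b _ := map_zero _
  add_mem' {u v} hu hv b hb := by rw [map_add, hu b hb, hv b hb]
  neg_mem' {u} hu b hb := by rw [map_neg, hu b hb]

theorem mem_fix {B : Subgroup G} {v : V} : v ∈ fix ρ B ↔ ∀ b ∈ B, ρ b v = v := Iff.rfl

theorem fix_anti {B C : Subgroup G} (h : B ≤ C) : fix ρ C ≤ fix ρ B := fun v hv b hb => hv b (h hb)

theorem le_stab_iff {B : Subgroup G} {X : AddSubgroup V} : B ≤ stab ρ X ↔ X ≤ fix ρ B :=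
  ⟨fun h x hx b hb => h hb x hx, fun h b hb x hx => h hx b hb⟩

theorem fix_sup (B C : Subgroup G) : fix ρ (B ⊔ C) = fix ρ B ⊓ fix ρ C := by
  refine le_antisymm (le_inf (fix_anti ρ le_sup_left) (fix_anti ρ le_sup_right)) ?_
  rw [← le_stab_iff, sup_le_iff, le_stab_iff, le_stab_iff]
  exact ⟨inf_le_left, inf_le_right⟩

/-- The commutator group `[V, B]`. -/
def com (B : Subgroup G) : AddSubgroup V :=
  AddSubgroup.closure {w | ∃ b ∈ B, ∃ v, w = ρ b v - v}

theorem sub_mem_com {B : Subgroup G} {b : G} (hb : b ∈ B) (v : V) : ρ b v - v ∈ com ρ B :=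
  AddSubgroup.subset_closure ⟨b, hb, v, rfl⟩

theorem com_le_iff {B : Subgroup G} {Y : AddSubgroup V} : com ρ B ≤ Y ↔ B ≤ trivMod ρ Y := by
  rw [com, AddSubgroup.closure_le]
  exact ⟨fun h b hb v => h ⟨b, hb, v, rfl⟩, fun h w => by rintro ⟨b, hb, v, rfl⟩; exact h hb v⟩

/-- `|B| |C_V(B)|`. -/
noncomputable def meas (B : Subgroup G) : ℕ := Nat.card B * Nat.card ↥(fix ρ B)

theorem card_sup_mul_card_inf' [Finite V] (P Q : AddSubgroup V) :
    Nat.card ↥(P ⊔ Q) * Nat.card ↥(P ⊓ Q) = Nat.card P * Nat.card Q := by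
  let f : P × Q →+ V := AddMonoidHom.coprod P.subtype Q.subtype
  have hr : f.range = P ⊔ Q := by
    ext x
    rw [AddMonoidHom.mem_range, AddSubgroup.mem_sup]
    exact ⟨fun ⟨⟨a, b⟩, h⟩ => ⟨a, a.2, b, b.2, h⟩,
      fun ⟨a, ha, b, hb, h⟩ => ⟨⟨⟨a, ha⟩, ⟨b, hb⟩⟩, h⟩⟩
  have hk : Nat.card f.ker = Nat.card ↥(P ⊓ Q) := by
    refine Nat.card_congr
      { toFun := fun x => ⟨(x.1.1 : V), x.1.1.2, ?_⟩
        invFun := fun y => ⟨(⟨y.1, y.2.1⟩, ⟨-y.1, Q.neg_mem y.2.2⟩), ?_⟩
        left_inv := fun x => ?_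
        right_inv := fun y => rfl }
    · have h : (x.1.1 : V) + (x.1.2 : V) = 0 := x.2
      show (x.1.1 : V) ∈ Q
      rw [eq_neg_of_add_eq_zero_left h]
      exact Q.neg_mem x.1.2.2
    · show y.1 + -y.1 = 0
      exact add_neg_cancel _
    · obtain ⟨⟨a, b⟩, h⟩ := x
      refine Subtype.ext (Prod.ext rfl (Subtype.ext ?_))
      exact (eq_neg_of_add_eq_zero_right h).symm
  have h := f.ker.card_eq_card_quotient_mul_card_addSubgroup
  rw [Nat.card_congr (QuotientAddGroup.quotientKerEquivRange f).toEquiv, hr, hk, Nat.card_prod] at h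
  exact h.symm

section Replacement

variable [Finite G] [Finite V] {A : Subgroup G}

/-- The replacement property. -/
def Repl (A : Subgroup G) (X : AddSubgroup V) : Prop :=
  meas ρ (A ⊓ stab ρ X) = meas ρ A ∧ fix ρ (A ⊓ stab ρ X) = X ⊔ fix ρ A

variable (hc : ∀ a ∈ A, ∀ b ∈ A, a * b = b * a)
  (hmax : ∀ B, B ≤ A → meas ρ B ≤ meas ρ A)

include hc hmax

theorem repl_single (u : V) :
    Repl ρ A (AddSubgroup.closure ((fun a => ρ a u - u) '' (A : Set G))) := by
  set X := AddSubgroup.closure ((fun a => ρ a u - u) '' (A : Set G)) with hX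
  set B := A ⊓ stab ρ X with hB
  set Y := fix ρ A with hY
  have hle : X ⊔ Y ≤ fix ρ B :=
    sup_le ((le_stab_iff ρ).mp inf_le_right) (fix_anti ρ inf_le_left)
  let f : A → ↥(X ⊔ Y) ⧸ Y.addSubgroupOf (X ⊔ Y) := fun a =>
    QuotientAddGroup.mk ⟨ρ (a : G) u - u,
      AddSubgroup.mem_sup_left (AddSubgroup.subset_closure ⟨a, a.2, rfl⟩)⟩
  let g : A ⧸ B.subgroupOf A → ↥(X ⊔ Y) ⧸ Y.addSubgroupOf (X ⊔ Y) := fun q => f q.out
  have hg : Function.Injective g := by
    intro q r hqr
    rw [← QuotientGroup.out_eq' q, ← QuotientGroup.out_eq' r, QuotientGroup.eq]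
    simp only [g, f] at hqr
    rw [QuotientAddGroup.eq, AddSubgroup.mem_addSubgroupOf] at hqr
    simp only [AddSubgroup.coe_add, NegMemClass.coe_neg] at hqr
    refine Subgroup.mem_subgroupOf.mpr ⟨(q.out⁻¹ * r.out).2, ?_⟩
    simp only [Subgroup.coe_mul, Subgroup.coe_inv]
    set a : G := (q.out : G) with ha
    set b : G := (r.out : G) with hb
    have haA : a ∈ A := q.out.2
    have hbA : b ∈ A := r.out.2
    set c := a⁻¹ * b with hcdef
    have hcA : c ∈ A := A.mul_mem (A.inv_mem haA) hbA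
    have hz : ρ c u - u ∈ Y := by
      have e : ρ c u - u = -(ρ a u - u) + (ρ b u - u) := by
        have h := hqr a⁻¹ (A.inv_mem haA)
        calc ρ c u - u = ρ a⁻¹ (-(ρ a u - u) + (ρ b u - u)) := by
              rw [hcdef, act_mul, map_add, map_neg, map_sub, map_sub, act_inv_self]
              abel
          _ = _ := h
      rw [e]
      exact hqr
    intro x hx
    refine AddSubgroup.closure_induction (p := fun x _ => ρ c x = x) ?_ (map_zero _) ?_ ?_ hx
    · rintro _ ⟨d, hd, rfl⟩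
      have h1 := hz d hd
      rw [map_sub, act_comm ρ (hc d hd c hcA)] at h1
      show ρ c (ρ d u - u) = ρ d u - u
      rw [map_sub]
      exact sub_eq_sub_iff_sub_eq_sub.mpr h1
    · intro x y _ _ hx hy; rw [map_add, hx, hy]
    · intro x _ hx; rw [map_neg, hx]
  have h1 : B.relIndex A ≤ Y.relIndex (X ⊔ Y) := Nat.card_le_card_of_injective g hg
  have hA : Nat.card A = Nat.card B * B.relIndex A := by
    rw [← Subgroup.relIndex_bot_left, ← Subgroup.relIndex_bot_left,
      Subgroup.relIndex_mul_relIndex _ _ _ bot_le inf_le_left]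
  have hXY : Nat.card ↥(X ⊔ Y) = Nat.card Y * Y.relIndex (X ⊔ Y) := by
    rw [← AddSubgroup.relIndex_bot_left, ← AddSubgroup.relIndex_bot_left,
      AddSubgroup.relIndex_mul_relIndex _ _ _ bot_le le_sup_right]
  have h2 : meas ρ A ≤ Nat.card B * Nat.card ↥(X ⊔ Y) := by
    rw [meas, hA, hXY, ← hY, mul_assoc, mul_comm (B.relIndex A)]
    gcongr
  have h3 : meas ρ B ≤ meas ρ A := hmax B inf_le_left
  have h4 : Nat.card B * Nat.card ↥(X ⊔ Y) ≤ meas ρ B :=
    Nat.mul_le_mul_left _ (AddSubgroup.card_le_of_le hle)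
  exact ⟨le_antisymm h3 (h2.trans h4), (AddSubgroup.eq_of_le_of_card_ge hle
    (Nat.le_of_mul_le_mul_left (h3.trans h2) Nat.card_pos)).symm⟩

theorem repl_bot : Repl ρ A (⊥ : AddSubgroup V) := by
  have h : A ⊓ stab ρ (⊥ : AddSubgroup V) = A :=
    inf_eq_left.mpr fun a _ x hx => by rw [AddSubgroup.mem_bot.mp hx, map_zero]
  rw [Repl, h, bot_sup_eq]
  exact ⟨rfl, rfl⟩

theorem repl_sup {X X' : AddSubgroup V} (hX : Repl ρ A X) (hX' : Repl ρ A X') :
    Repl ρ A (X ⊔ X') := by
  set B := A ⊓ stab ρ X with hB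
  set C := A ⊓ stab ρ X' with hC
  have hinf : A ⊓ stab ρ (X ⊔ X') = B ⊓ C := by
    apply le_antisymm
    · exact le_inf (inf_le_inf_left _ fun g hg x hx => hg x (AddSubgroup.mem_sup_left hx))
        (inf_le_inf_left _ fun g hg x hx => hg x (AddSubgroup.mem_sup_right hx))
    · refine le_inf (inf_le_left.trans inf_le_left) ((le_stab_iff ρ).mpr (sup_le ?_ ?_))
      · exact (le_stab_iff ρ).mp (inf_le_left.trans inf_le_right)
      · exact (le_stab_iff ρ).mp (inf_le_right.trans inf_le_right)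
  have hCB : C ≤ Subgroup.normalizer (B : Set G) := fun g hg =>
    Subgroup.mem_normalizer_iff.mpr fun h => by
      constructor
      · intro hh
        rwa [← hc h hh.1 g hg.1, mul_inv_cancel_right]
      · intro hh
        have e : g * h = (g * h * g⁻¹) * g := by group
        rw [hc _ hh.1 g hg.1] at e
        rwa [← mul_left_cancel e] at hh
  have hcard := card_sup_mul_card_inf hCB
  set P := fix ρ B with hP
  set Q := fix ρ C with hQ
  have hcardV := card_sup_mul_card_inf' P Q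
  have hsup : P ⊔ Q ≤ fix ρ (B ⊓ C) :=
    sup_le (fix_anti ρ inf_le_left) (fix_anti ρ inf_le_right)
  have hBC : meas ρ (B ⊔ C) ≤ meas ρ A := hmax _ (sup_le inf_le_left inf_le_left)
  have hI : meas ρ (B ⊓ C) ≤ meas ρ A := hmax _ (inf_le_left.trans inf_le_left)
  have key : meas ρ A * meas ρ A ≤
      meas ρ A * (Nat.card ↥(B ⊓ C) * Nat.card ↥(P ⊔ Q)) := by
    calc meas ρ A * meas ρ A = meas ρ B * meas ρ C := by rw [hX.1, hX'.1]
      _ = (Nat.card ↥(B ⊔ C) * Nat.card ↥(P ⊓ Q)) *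
            (Nat.card ↥(B ⊓ C) * Nat.card ↥(P ⊔ Q)) := by
          rw [meas, meas, ← hP, ← hQ, mul_mul_mul_comm, ← hcard, ← hcardV]
          ring
      _ ≤ _ := by
          refine Nat.mul_le_mul_right _ (le_trans ?_ hBC)
          rw [meas, fix_sup]
  have hpos : 0 < meas ρ A := Nat.mul_pos Nat.card_pos Nat.card_pos
  have k1 : meas ρ A ≤ Nat.card ↥(B ⊓ C) * Nat.card ↥(P ⊔ Q) :=
    Nat.le_of_mul_le_mul_left key hpos
  rw [Repl, hinf]
  refine ⟨le_antisymm hI (k1.trans (Nat.mul_le_mul_left _ (AddSubgroup.card_le_of_le hsup))), ?_⟩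
  have k2 : fix ρ (B ⊓ C) = P ⊔ Q :=
    (AddSubgroup.eq_of_le_of_card_ge hsup
      (Nat.le_of_mul_le_mul_left (hI.trans k1) Nat.card_pos)).symm
  rw [k2, hP, hQ, hX.2, hX'.2, sup_sup_sup_comm, sup_idem]

theorem repl_com : Repl ρ A (com ρ A) := by
  classical
  haveI := Fintype.ofFinite V
  let F : V → AddSubgroup V := fun u => AddSubgroup.closure ((fun a => ρ a u - u) '' (A : Set G))
  have hU : com ρ A = Finset.univ.sup F := by
    apply le_antisymm
    · rw [com, AddSubgroup.closure_le]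
      rintro _ ⟨a, ha, v, rfl⟩
      exact (Finset.le_sup (f := F) (Finset.mem_univ v) : F v ≤ _)
        (AddSubgroup.subset_closure ⟨a, ha, rfl⟩)
    · refine Finset.sup_le fun u _ => ?_
      rw [AddSubgroup.closure_le]
      rintro _ ⟨a, ha, rfl⟩
      exact sub_mem_com ρ ha u
  rw [hU]
  exact Finset.sup_induction (p := fun X => Repl ρ A X) (repl_bot ρ hc hmax)
    (fun X hX X' hX' => repl_sup ρ hc hmax hX hX') fun u _ => repl_single ρ hc hmax u

end Replacement

theorem act_pow (g : G) (n : ℕ) (v : V) : ρ (g ^ n) v = (ρ g)^[n] v := by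
  induction n generalizing v with
  | zero => simp
  | succ n ih => rw [pow_succ, act_mul, ih, Function.iterate_succ_apply]

theorem charP_sub_pow {p : ℕ} [hp : Fact p.Prime] (hV : ∀ v : V, p • v = 0) {a : G}
    (ha : ρ (a ^ p) = 1) (v : V) : (dlt ρ a)^[p] v = 0 := by
  rcases subsingleton_or_nontrivial V with h | h
  · exact Subsingleton.elim _ _
  haveI : CharP (AddMonoid.End V) p := ⟨fun n => by
    constructor
    · intro hn
      obtain ⟨v, hv⟩ := exists_ne (0 : V)
      have h1 : n • v = 0 := by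
        have := congrArg (fun f : AddMonoid.End V => f v) hn
        simpa using this
      have h2 : addOrderOf v = p :=
        ((Nat.dvd_prime hp.out).mp (addOrderOf_dvd_of_nsmul_eq_zero (hV v))).resolve_left
          fun e => hv (AddMonoid.addOrderOf_eq_one_iff.mp e)
      exact h2 ▸ addOrderOf_dvd_of_nsmul_eq_zero h1
    · rintro ⟨m, rfl⟩
      refine AddMonoidHom.ext fun v => ?_
      show ((p * m : ℕ) : AddMonoid.End V) v = 0
      rw [AddMonoid.End.natCast_apply, mul_nsmul, hV, nsmul_zero]⟩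
  have h1 := sub_pow_char_of_commute (R := AddMonoid.End V) (p := p) (Commute.one_right (ρ a))
  rw [one_pow, ← map_pow, ha, sub_self] at h1
  have h2 := congrArg (fun f : AddMonoid.End V => f v) h1
  simp only [AddMonoid.End.coe_pow] at h2
  exact h2

/-- A commuting family of unipotent elements: `W = [W, A]` forces `W = 0`. -/
theorem eq_bot_of_le_com [Finite G] {p : ℕ} [hp : Fact p.Prime] (hV : ∀ v : V, p • v = 0)
    {A : Subgroup G} (hc : ∀ a ∈ A, ∀ b ∈ A, a * b = b * a) (hAp : ∀ a ∈ A, a ^ p = 1)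
    {W : AddSubgroup V} (hWi : ∀ a ∈ A, ∀ w ∈ W, ρ a w ∈ W) (hW : W ≤ AddSubgroup.closure {w | ∃ a ∈ A, ∃ v ∈ W, w = ρ a v - v}) :
    W = ⊥ := by
  classical
  haveI := Fintype.ofFinite A
  suffices ∀ s : Finset A, W ≤ s.sup (fun a => W.map (dlt ρ (a : G))) → W = ⊥ by
    refine this Finset.univ (hW.trans ?_)
    rw [AddSubgroup.closure_le]
    rintro _ ⟨a, ha, v, hv, rfl⟩
    exact (Finset.le_sup (f := fun b : A => W.map (dlt ρ (b : G)))
      (Finset.mem_univ (⟨a, ha⟩ : A))) ⟨v, hv, rfl⟩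
  intro s
  induction s using Finset.induction with
  | empty => intro h; exact le_bot_iff.mp (h.trans (le_of_eq Finset.sup_empty))
  | insert a s has ih =>
    intro h
    rw [Finset.sup_insert] at h
    refine ih ?_
    set Y := s.sup (fun a : A => W.map (dlt ρ (a : G))) with hY
    set f := dlt ρ (a : G) with hf
    have hfY : Y.map f ≤ Y := by
      refine AddSubgroup.map_le_iff_le_comap.mpr (Finset.sup_le fun b hb => ?_)
      rintro _ ⟨v, hv, rfl⟩
      show f (dlt ρ (b : G) v) ∈ Y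
      refine (Finset.le_sup (f := fun a : A => W.map (dlt ρ (a : G))) hb)
        ⟨f v, W.sub_mem (hWi _ a.2 v hv) hv, ?_⟩
      show ρ (b : G) (ρ (a : G) v - v) - (ρ (a : G) v - v) =
        ρ (a : G) (ρ (b : G) v - v) - (ρ (b : G) v - v)
      rw [map_sub, map_sub, act_comm ρ (hc _ b.2 _ a.2)]
      abel
    have hj : ∀ j : ℕ, ∀ w ∈ W, ∃ u ∈ W, ∃ y ∈ Y, w = f^[j] u + y := by
      intro j
      induction j with
      | zero => exact fun w hw => ⟨w, hw, 0, Y.zero_mem, by simp⟩
      | succ j ihj =>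
        intro w hw
        obtain ⟨u, hu, y, hy, rfl⟩ := ihj w hw
        obtain ⟨y', ⟨u', hu', rfl⟩, z, hz, hyz⟩ := AddSubgroup.mem_sup.mp (h hu)
        refine ⟨u', hu', f^[j] z + y, Y.add_mem ?_ hy, ?_⟩
        · clear hyz hw ihj
          induction j with
          | zero => simpa using hz
          | succ j ihz => rw [Function.iterate_succ_apply']; exact hfY ⟨_, ihz, rfl⟩
        · rw [← hyz, iterate_map_add f j, Function.iterate_succ_apply]
          exact add_assoc _ _ _
    intro w hw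
    obtain ⟨u, hu, y, hy, rfl⟩ := hj p w hw
    have hz : f^[p] u = 0 := charP_sub_pow ρ hV (by rw [hAp _ a.2, map_one]) u
    rwa [hz, zero_add]

section Sub

variable (U : AddSubgroup V) (hU : ∀ g, ∀ u ∈ U, ρ g u ∈ U)

/-- Restriction. -/
def subRep : G →* AddMonoid.End U where
  toFun g :=
    { toFun := fun u => ⟨ρ g u, hU g u u.2⟩
      map_zero' := Subtype.ext (map_zero _)
      map_add' := fun u v => Subtype.ext (map_add _ _ _) }
  map_one' := AddMonoidHom.ext fun u => Subtype.ext (act_one ρ (u : V))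
  map_mul' g h := AddMonoidHom.ext fun u => Subtype.ext (act_mul ρ g h (u : V))

@[simp] theorem subRep_coe (g : G) (u : U) : (subRep ρ U hU g u : V) = ρ g u := rfl

/-- Quotient. -/
def quotRep : G →* AddMonoid.End (V ⧸ U) where
  toFun g := QuotientAddGroup.map U U (ρ g) (fun u hu => hU g u hu)
  map_one' := by
    refine QuotientAddGroup.addMonoidHom_ext _ (AddMonoidHom.ext fun v => ?_)
    exact congrArg QuotientAddGroup.mk (act_one ρ v)
  map_mul' g h := by
    refine QuotientAddGroup.addMonoidHom_ext _ (AddMonoidHom.ext fun v => ?_)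
    exact congrArg QuotientAddGroup.mk (act_mul ρ g h v)

@[simp] theorem quotRep_mk (g : G) (v : V) :
    quotRep ρ U hU g (QuotientAddGroup.mk v) = QuotientAddGroup.mk (ρ g v) := rfl

end Sub

end Cfsg.Agent.Thompson.PGV
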