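import Mathlib
import Cfsg.Prelude.Def_PLocal
import Cfsg.Prelude.Def_CaseTheorems
import Cfsg.Agent.Lib.Thompson.PGV.Action
import Cfsg.Agent.Lib.Components.Basic

/-!
An element moving a quasisimple subgroup into a commuting conjugate, and a second element killing
its commutator module.
-/

set_option autoImplicit false
set_option linter.unusedVariables false
set_option linter.unusedSectionVars false
set_option linter.style.haveILetI false

namespace Cfsg.Agent.Thompson.PGV

open Cfsg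
open scoped commutatorElement

section Subdirect

variable {L : Type*} [Group L]

/-- An endomorphism that is trivial modulo the centre is trivial on a perfect group. -/
theorem eq_id_of_central (hL : IsQuasisimple L) (φ : L →* L)
    (h : ∀ x, x⁻¹ * φ x ∈ Subgroup.center L) (x : L) : φ x = x := by
  let f : L →* Subgroup.center L :=
    { toFun := fun x => ⟨x⁻¹ * φ x, h x⟩
      map_one' := Subtype.ext (by simp)
      map_mul' := fun x y => Subtype.ext (by
        show (x * y)⁻¹ * φ (x * y) = x⁻¹ * φ x * (y⁻¹ * φ y)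
        rw [map_mul, mul_inv_rev]
        calc y⁻¹ * x⁻¹ * (φ x * φ y) = y⁻¹ * (x⁻¹ * φ x) * φ y := by group
          _ = (x⁻¹ * φ x) * y⁻¹ * φ y := by rw [Subgroup.mem_center_iff.mp (h x) y⁻¹]
          _ = x⁻¹ * φ x * (y⁻¹ * φ y) := by group) }
  haveI := hL.1
  have hk : commutator L ≤ f.ker := by
    rw [commutator_def, Subgroup.commutator_le]
    intro a _ b _
    rw [MonoidHom.mem_ker, map_commutatorElement, commutatorElement_eq_one_iff_mul_comm]
    exact Subtype.ext (Subgroup.mem_center_iff.mp (f b).2 _)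
  have : x ∈ f.ker := hk (by rw [Group.IsPerfect.commutator_eq_top (G := L)]; trivial)
  exact (inv_mul_eq_one.mp (congrArg Subtype.val (MonoidHom.mem_ker.mp this))).symm

theorem eq_top_of_not_le_center (hL : IsQuasisimple L) (N : Subgroup L) [N.Normal] {x : L}
    (hx : x ∈ N) (hx' : x ∉ Subgroup.center L) : N = ⊤ :=
  (Components.normal_eq_top_or_le_center hL N).resolve_right fun h => hx' (h hx)

theorem mulSingle_mem_of_subdirect {ι : Type*} [Fintype ι] [DecidableEq ι] (hL : IsQuasisimple L)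
    (H : Subgroup (ι → L)) (i₀ : ι) (hconst : ∀ x : L, (fun _ => x) ∈ H)
    (hsep : ∀ s, s ≠ i₀ → ∃ f ∈ H, f s = 1 ∧ f i₀ ∉ Subgroup.center L) (x : L) :
    Pi.mulSingle i₀ x ∈ H := by
  let N : Finset ι → Subgroup L := fun S =>
    (H ⊓ ⨅ s ∈ S, (Pi.evalMonoidHom (fun _ : ι => L) s).ker).map (Pi.evalMonoidHom _ i₀)
  have hmem : ∀ S y, y ∈ N S ↔ ∃ f ∈ H, f i₀ = y ∧ ∀ s ∈ S, f s = 1 := fun S y => by
    simp only [N, Subgroup.mem_map, Subgroup.mem_inf, Subgroup.mem_iInf, MonoidHom.mem_ker,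
      Pi.evalMonoidHom_apply]
    exact ⟨fun ⟨f, ⟨hf, h⟩, e⟩ => ⟨f, hf, e, h⟩, fun ⟨f, hf, e, h⟩ => ⟨f, ⟨hf, h⟩, e⟩⟩
  haveI hn : ∀ S, (N S).Normal := fun S => ⟨fun y hy g => by
    obtain ⟨f, hf, rfl, h⟩ := (hmem S y).mp hy
    exact (hmem S _).mpr ⟨(fun _ => g) * f * (fun _ => g)⁻¹,
      H.mul_mem (H.mul_mem (hconst g) hf) (H.inv_mem (hconst g)), rfl,
      fun s hs => by simp [h s hs]⟩⟩
  have htop : ∀ S : Finset ι, i₀ ∉ S → N S = ⊤ := by
    intro S
    induction S using Finset.induction with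
    | empty =>
      exact fun _ => Subgroup.eq_top_iff' _ |>.mpr fun y =>
        (hmem _ y).mpr ⟨_, hconst y, rfl, fun s hs => absurd hs (Finset.notMem_empty s)⟩
    | insert s S hs ih =>
      intro h
      rw [Finset.mem_insert, not_or] at h
      haveI := hL.1
      rw [eq_top_iff, ← Group.IsPerfect.commutator_eq_top (G := L), commutator_def,
        Subgroup.commutator_le]
      intro a _ b _
      obtain ⟨g, hg, hgs, hgc⟩ := hsep s (Ne.symm h.1)
      have h1 : N {s} = ⊤ := eq_top_of_not_le_center hL _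
        ((hmem _ _).mpr ⟨g, hg, rfl, fun t ht => by rw [Finset.mem_singleton.mp ht, hgs]⟩) hgc
      obtain ⟨f, hf, rfl, hfS⟩ := (hmem S a).mp (by rw [ih h.2]; trivial)
      obtain ⟨f', hf', rfl, hfs⟩ := (hmem {s} b).mp (by rw [h1]; trivial)
      refine (hmem _ _).mpr ⟨⁅f, f'⁆, ?_, rfl, fun t ht => ?_⟩
      · rw [commutatorElement_def]
        exact H.mul_mem (H.mul_mem (H.mul_mem hf hf') (H.inv_mem hf)) (H.inv_mem hf')
      · rw [commutatorElement_def]
        simp only [Pi.mul_apply, Pi.inv_apply]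
        rcases Finset.mem_insert.mp ht with rfl | ht
        · simp [hfs t (Finset.mem_singleton_self t)]
        · simp [hfS t ht]
  obtain ⟨f, hf, rfl, h⟩ :=
    (hmem _ x).mp (by rw [htop (Finset.univ.erase i₀) (Finset.notMem_erase _ _)]; trivial)
  convert hf using 1
  ext i
  rcases eq_or_ne i i₀ with rfl | hi
  · simp
  · rw [Pi.mulSingle_eq_of_ne hi, h i (Finset.mem_erase.mpr ⟨hi, Finset.mem_univ i⟩)]

end Subdirect

variable {G : Type*} [Group G] {V : Type*} [AddCommGroup V] (ρ : G →* AddMonoid.End V)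

/-- Conjugates by elements in different cosets of the normalizer commute. -/
def Splits (K A : Subgroup G) : Prop :=
  ∀ x ∈ A, ∀ y ∈ A, x⁻¹ * y ∉ Subgroup.normalizer (K : Set G) →
    ∀ k ∈ K, ∀ l ∈ K, Commute (x * k * x⁻¹) (y * l * y⁻¹)

theorem conj_apply_mem {X : AddSubgroup V} {g : G} (hg : ∀ x ∈ X, ρ g x ∈ X)
    (hg' : ∀ x ∈ X, ρ g⁻¹ x ∈ X) {s : G} (hs : s ∈ stab ρ X) : g * s * g⁻¹ ∈ stab ρ X := fun x hx => by
  rw [act_mul, act_mul, hs _ (hg' x hx), act_self_inv]

theorem range_invariant {a g : G} (h : a * g = g * a) :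
    ∀ x ∈ (dlt ρ a).range, ρ g x ∈ (dlt ρ a).range := by
  rintro _ ⟨v, rfl⟩
  exact ⟨ρ g v, dlt_comm ρ h v⟩

theorem trivMod_of_stab_range {a g : G} (h : a * g = g * a) (hg : g ∈ stab ρ (dlt ρ a).range) :
    g ∈ trivMod ρ (dlt ρ a).ker := fun v => by
  show dlt ρ a (ρ g v - v) = 0
  rw [map_sub, dlt_comm ρ h, hg (dlt ρ a v) ⟨v, rfl⟩, sub_self]

theorem trivMod_mono {Y Z : AddSubgroup V} (h : Y ≤ Z) : trivMod ρ Y ≤ trivMod ρ Z :=
  fun g hg v => h (hg v)

theorem pow_notMem_normalizer {K : Subgroup G} {p : ℕ} [hp : Fact p.Prime] {a : G} (ha1 : a ^ p = 1)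
    (ha : a ∉ Subgroup.normalizer (K : Set G)) {n : ℤ} (hn : ¬ (p : ℤ) ∣ n) :
    a ^ n ∉ Subgroup.normalizer (K : Set G) := fun h => ha (by
  obtain ⟨u, v, huv⟩ := (Prime.coprime_iff_not_dvd (Nat.prime_iff_prime_int.mp hp.out)).mpr hn
  rw [← zpow_one a, ← huv, zpow_add, zpow_mul', zpow_natCast, ha1, one_zpow, one_mul, zpow_mul']
  exact zpow_mem h v)

section Pi

variable {K A : Subgroup G} {p : ℕ} [hp : Fact p.Prime] (hS : Splits K A) {a : G} (ha : a ∈ A)
  (ha1 : a ^ p = 1) (haN : a ∉ Subgroup.normalizer (K : Set G))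

/-- The embedding of the `i`-th conjugate. -/
def psi (K : Subgroup G) (a : G) (i : ZMod p) : K →* G :=
  (MulAut.conj (a ^ i.val)).toMonoidHom.comp K.subtype

@[simp] theorem psi_apply (i : ZMod p) (x : K) :
    psi K a i x = a ^ i.val * x * (a ^ i.val)⁻¹ := rfl

include hS ha ha1 haN in
theorem psi_commute :
    Pairwise fun i j : ZMod p => ∀ x y, Commute (psi K a i x) (psi K a j y) := by
  intro i j hij x y
  refine hS _ (A.pow_mem ha _) _ (A.pow_mem ha _) ?_ _ x.2 _ y.2
  have e : (a ^ i.val)⁻¹ * a ^ j.val = a ^ ((j.val : ℤ) - i.val) := by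
    rw [zpow_sub, zpow_natCast, zpow_natCast]
    exact ((Commute.refl a).pow_pow _ _).inv_right.eq.symm
  rw [e]
  refine pow_notMem_normalizer ha1 haN fun hd => hij ?_
  have h0 := (ZMod.intCast_zmod_eq_zero_iff_dvd _ p).mpr hd
  push_cast at h0
  rw [ZMod.natCast_zmod_val, ZMod.natCast_zmod_val, sub_eq_zero] at h0
  exact h0.symm

/-- The product of the conjugates. -/
noncomputable def orb : (ZMod p → K) →* G :=
  MonoidHom.noncommPiCoprod (psi K a) (psi_commute hS ha ha1 haN)

include hS ha ha1 haN in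
theorem orb_mulSingle (i : ZMod p) (x : K) :
    orb hS ha ha1 haN (Pi.mulSingle i x) = psi K a i x :=
  MonoidHom.noncommPiCoprod_mulSingle _ _ _

/-- The diagonal. -/
noncomputable def diag : K →* G :=
  (orb hS ha ha1 haN).comp (Pi.constMonoidHom (ZMod p) K)

theorem diag_comm (x : K) : a * diag hS ha ha1 haN x = diag hS ha ha1 haN x * a := by
  let sh : (ZMod p → K) →* (ZMod p → K) :=
    { toFun := fun f i => f (i - 1)
      map_one' := rfl
      map_mul' := fun f g => rfl }
  have h : (MulAut.conj a).toMonoidHom.comp (orb hS ha ha1 haN) = (orb hS ha ha1 haN).comp sh := by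
    refine MonoidHom.pi_ext fun i y => ?_
    have e : sh (Pi.mulSingle i y) = Pi.mulSingle (i + 1) y := by
      ext j
      show ((Pi.mulSingle i y : ZMod p → K) (j - 1) : G) = _
      rcases eq_or_ne j (i + 1) with rfl | hj
      · simp
      · rw [Pi.mulSingle_eq_of_ne hj, Pi.mulSingle_eq_of_ne (fun h => hj (by rw [← h]; ring))]
    show a * orb hS ha ha1 haN (Pi.mulSingle i y) * a⁻¹ = orb hS ha ha1 haN (sh (Pi.mulSingle i y))
    rw [e, orb_mulSingle, orb_mulSingle, psi_apply, psi_apply, ZMod.val_add, ZMod.val_one,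
      ← pow_eq_pow_mod _ ha1, pow_succ']
    group
  have := congrArg (fun f : (ZMod p → K) →* G => f (fun _ => x)) h
  exact mul_inv_eq_iff_eq_mul.mp this

/-- Conjugation of the normal subgroup by an element of its normalizer. -/
def conjNorm {c : G} (hc : c ∈ Subgroup.normalizer (K : Set G)) : K →* K where
  toFun x := ⟨c * x * c⁻¹, (Subgroup.mem_normalizer_iff.mp hc _).mp x.2⟩
  map_one' := Subtype.ext (by simp)
  map_mul' x y := Subtype.ext (by simp [mul_assoc])

variable {c : G} (hc : c ∈ Subgroup.normalizer (K : Set G)) (hca : a * c = c * a)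

include hca in
theorem diag_conj (x : K) :
    c * diag hS ha ha1 haN x * c⁻¹ = diag hS ha ha1 haN (conjNorm hc x) := by
  have h : (MulAut.conj c).toMonoidHom.comp (orb hS ha ha1 haN) =
      (orb hS ha ha1 haN).comp (MonoidHom.pi fun i => (conjNorm hc).comp (Pi.evalMonoidHom _ i)) := by
    refine MonoidHom.pi_ext fun i y => ?_
    have e : (fun j => conjNorm hc ((Pi.mulSingle i y : ZMod p → K) j)) =
        Pi.mulSingle i (conjNorm hc y) := by
      ext j
      rcases eq_or_ne j i with rfl | hj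
      · simp
      · simp [Pi.mulSingle_eq_of_ne hj]
    show c * orb hS ha ha1 haN (Pi.mulSingle i y) * c⁻¹ =
      orb hS ha ha1 haN fun j => conjNorm hc ((Pi.mulSingle i y : ZMod p → K) j)
    rw [e, orb_mulSingle, orb_mulSingle, psi_apply, psi_apply]
    have hcp : c * a ^ i.val = a ^ i.val * c := ((Commute.pow_left hca i.val).eq).symm
    show c * (a ^ i.val * y * (a ^ i.val)⁻¹) * c⁻¹ = a ^ i.val * (c * y * c⁻¹) * (a ^ i.val)⁻¹
    calc c * (a ^ i.val * y * (a ^ i.val)⁻¹) * c⁻¹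
        = (c * a ^ i.val) * y * (c * a ^ i.val)⁻¹ := by group
      _ = (a ^ i.val * c) * y * (a ^ i.val * c)⁻¹ := by rw [hcp]
      _ = _ := by group
  exact congrArg (fun f : (ZMod p → K) →* G => f (fun _ => x)) h

variable (hL : IsQuasisimple K) (hst : c ∈ stab ρ (dlt ρ a).range)
  (hnc : c ∉ Subgroup.centralizer (K : Set G))

include hL hc hca hst hnc in
theorem diag_mem_stab (x : K) : diag hS ha ha1 haN x ∈ stab ρ (dlt ρ a).range := by
  set D := (stab ρ (dlt ρ a).range).comap (diag hS ha ha1 haN) with hD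
  have hinv : ∀ y : K, ∀ v ∈ (dlt ρ a).range, ρ (diag hS ha ha1 haN y) v ∈ (dlt ρ a).range :=
    fun y => range_invariant ρ (diag_comm hS ha ha1 haN y)
  have hconj : ∀ (y : K) (s : G), s ∈ stab ρ (dlt ρ a).range →
      diag hS ha ha1 haN y * s * (diag hS ha ha1 haN y)⁻¹ ∈ stab ρ (dlt ρ a).range :=
    fun y s hs => conj_apply_mem ρ (hinv y) (fun v hv => by
      rw [← map_inv]; exact hinv y⁻¹ v hv) hs
  haveI : D.Normal := ⟨fun y hy g => by
    rw [Subgroup.mem_comap, map_mul, map_mul, map_inv]; exact hconj g _ hy⟩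
  obtain ⟨y, hy⟩ : ∃ y : K, y⁻¹ * conjNorm hc y ∉ Subgroup.center K := by
    by_contra h
    push Not at h
    refine hnc (Subgroup.mem_centralizer_iff.mpr fun z hz => ?_)
    exact (mul_inv_eq_iff_eq_mul.mp
      (congrArg Subtype.val (eq_id_of_central hL (conjNorm hc) h ⟨z, hz⟩))).symm
  have hDtop : D = ⊤ := eq_top_of_not_le_center hL D (x := y⁻¹ * conjNorm hc y) (by
    rw [Subgroup.mem_comap, map_mul, ← diag_conj hS ha ha1 haN hc hca y, map_inv]
    have h1 := hconj y⁻¹ c hst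
    rw [map_inv, inv_inv] at h1
    rw [show (diag hS ha ha1 haN y)⁻¹ * (c * diag hS ha ha1 haN y * c⁻¹) =
      ((diag hS ha ha1 haN y)⁻¹ * c * diag hS ha ha1 haN y) * c⁻¹ by group]
    exact Subgroup.mul_mem _ h1 (Subgroup.inv_mem _ hst)) hy
  exact (hDtop ▸ Subgroup.mem_top x : x ∈ D)

include hS ha ha1 haN hc hca hL hst hnc in
/-- Two diagonals of twisted orbits generate the component. -/
theorem pair_spec (hA : ∀ x ∈ A, ∀ y ∈ A, x * y = y * x) (hcA : c ∈ A) (hc1 : c ^ p = 1)
    (hcc : c ∈ stab ρ (dlt ρ c).range) :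
    K ≤ stab ρ ((dlt ρ a).range ⊓ (dlt ρ (a * c)).range) ∧
      K ≤ trivMod ρ ((dlt ρ a).ker ⊔ (dlt ρ (a * c)).ker) := by
  have hb : a * c ∈ A := A.mul_mem ha hcA
  have hb1 : (a * c) ^ p = 1 := by rw [(Commute.mul_pow hca), ha1, hc1, one_mul]
  have hbN : a * c ∉ Subgroup.normalizer (K : Set G) := fun h =>
    haN ((Subgroup.mul_mem_cancel_right _ hc).mp h)
  have hbc : a * c * c = c * (a * c) := hA _ hb _ hcA
  have hst' : c ∈ stab ρ (dlt ρ (a * c)).range := by
    rintro _ ⟨v, rfl⟩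
    have e : dlt ρ (a * c) v = dlt ρ a (ρ c v) + dlt ρ c v := by
      simp only [dlt_apply, act_mul]
      abel
    show ρ c (dlt ρ (a * c) v) = dlt ρ (a * c) v
    rw [e, map_add]
    exact congrArg₂ _ (hst _ ⟨_, rfl⟩) (hcc _ ⟨_, rfl⟩)
  suffices h : ∀ F : Subgroup G, (∀ x, diag hS ha ha1 haN x ∈ F) →
      (∀ x, diag hS hb hb1 hbN x ∈ F) → K ≤ F by
    have h1 := diag_mem_stab ρ hS ha ha1 haN hc hca hL hst hnc
    have h2 := diag_mem_stab ρ hS hb hb1 hbN hc hbc hL hst' hnc
    refine ⟨h _ (fun x v hv => h1 x v hv.1) fun x v hv => h2 x v hv.2, h _ (fun x => ?_) fun x => ?_⟩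
    · exact trivMod_mono ρ le_sup_left
        (trivMod_of_stab_range ρ (diag_comm hS ha ha1 haN x) (h1 x))
    · exact trivMod_mono ρ le_sup_right
        (trivMod_of_stab_range ρ (diag_comm hS hb hb1 hbN x) (h2 x))
  intro F hF1 hF2 k hk
  classical
  set H := F.comap (orb hS ha ha1 haN) with hH
  let τ : ZMod p → (K →* K) := fun i => conjNorm (Subgroup.pow_mem _ hc i.val)
  have htw : (fun x : K => diag hS hb hb1 hbN x) =
      fun x => orb hS ha ha1 haN fun i => τ i x := by
    have h : orb hS hb hb1 hbN = (orb hS ha ha1 haN).comp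
        (MonoidHom.pi fun i => (τ i).comp (Pi.evalMonoidHom _ i)) := by
      refine MonoidHom.pi_ext fun i y => ?_
      have e : (fun j => τ j ((Pi.mulSingle i y : ZMod p → K) j)) = Pi.mulSingle i (τ i y) := by
        ext j
        rcases eq_or_ne j i with rfl | hj
        · simp
        · simp [Pi.mulSingle_eq_of_ne hj]
      show orb hS hb hb1 hbN (Pi.mulSingle i y) =
        orb hS ha ha1 haN fun j => τ j ((Pi.mulSingle i y : ZMod p → K) j)
      rw [e, orb_mulSingle, orb_mulSingle, psi_apply, psi_apply, Commute.mul_pow hca]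
      show _ = a ^ i.val * (c ^ i.val * (y : G) * (c ^ i.val)⁻¹) * (a ^ i.val)⁻¹
      group
    exact funext fun x => congrArg (fun f : (ZMod p → K) →* G => f (fun _ => x)) h
  have key := mulSingle_mem_of_subdirect hL H 0 (fun x => hF1 x) (fun s hs => ?_) ⟨k, hk⟩
  · rw [hH, Subgroup.mem_comap, orb_mulSingle, psi_apply] at key
    simpa using key
  · obtain ⟨x, hx⟩ : ∃ x : K, (τ s x)⁻¹ * x ∉ Subgroup.center K := by
      by_contra hcon
      push Not at hcon
      refine hnc ?_
      have h1 : ∀ x : K, x⁻¹ * τ s x ∈ Subgroup.center K := fun x => by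
        have := Subgroup.inv_mem _ (hcon x)
        rwa [mul_inv_rev, inv_inv] at this
      have h2 : c ^ (s.val : ℤ) ∈ Subgroup.centralizer (K : Set G) := by
        rw [zpow_natCast, Subgroup.mem_centralizer_iff]
        intro z hz
        exact (mul_inv_eq_iff_eq_mul.mp
          (congrArg Subtype.val (eq_id_of_central hL (τ s) h1 ⟨z, hz⟩))).symm
      have hsd : ¬ (p : ℤ) ∣ s.val := fun hd => hs (by
        have := (ZMod.intCast_zmod_eq_zero_iff_dvd _ p).mpr hd
        simpa using this)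
      obtain ⟨u, v, huv⟩ :=
        (Prime.coprime_iff_not_dvd (Nat.prime_iff_prime_int.mp hp.out)).mpr hsd
      rw [← zpow_one c, ← huv, zpow_add, zpow_mul', zpow_natCast, hc1, one_zpow, one_mul, zpow_mul']
      exact zpow_mem h2 v
    refine ⟨(fun _ => τ s x)⁻¹ * fun i => τ i x, H.mul_mem (H.inv_mem (hF1 _)) ?_, by simp, ?_⟩
    · rw [hH, Subgroup.mem_comap, ← congrFun htw x]
      exact hF2 x
    · have h0 : τ 0 x = x := Subtype.ext (by simp [τ, conjNorm])
      simpa [h0] using hx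

end Pi

section Four

variable {K A : Subgroup G} (hS : Splits K A) (hL : IsQuasisimple K)
  (hA : ∀ x ∈ A, ∀ y ∈ A, x * y = y * x) (hA2 : ∀ x ∈ A, x * x = 1)

include hS hL hA hA2

/-- Two involutions with four different conjugates of a component. -/
theorem four_spec {a b : G} (ha : a ∈ A) (hb : b ∈ A) (haN : a ∉ Subgroup.normalizer (K : Set G))
    (hbN : b ∉ Subgroup.normalizer (K : Set G)) (habN : a * b ∉ Subgroup.normalizer (K : Set G))
    (hba : b ∈ stab ρ (dlt ρ a).range) (hab : a ∈ stab ρ (dlt ρ b).range) :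
    K ≤ trivMod ρ ((dlt ρ a).ker ⊔ (dlt ρ b).ker) := by
  have main : ∀ a' b', a' ∈ A → b' ∈ A → a' ∉ Subgroup.normalizer (K : Set G) →
      b' ∉ Subgroup.normalizer (K : Set G) → a' * b' ∉ Subgroup.normalizer (K : Set G) →
      b' ∈ stab ρ (dlt ρ a').range →
      ∀ k ∈ K, k * (a' * k * a'⁻¹) ∈ trivMod ρ (dlt ρ a').ker := by
    intro a b ha hb haN hbN habN hba
    have hai : a⁻¹ = a := inv_eq_of_mul_eq_one_right (hA2 a ha)
    have c1 : ∀ k ∈ K, ∀ l ∈ K, Commute k (a * l * a⁻¹) := fun k hk l hl => by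
      simpa using hS 1 A.one_mem a ha (by simpa using haN) k hk l hl
    let δ : K →* G :=
      { toFun := fun x => (x : G) * (a * x * a⁻¹)
        map_one' := by simp
        map_mul' := fun x y => by
          rw [(c1 y y.2 x x.2).symm.mul_mul_mul_comm, Subgroup.coe_mul]
          group }
    have hcomm : ∀ x : K, a * δ x = δ x * a := fun x => by
      show a * ((x : G) * (a * x * a⁻¹)) = (x : G) * (a * x * a⁻¹) * a
      conv_lhs => rw [(c1 x x.2 x x.2).eq]
      rw [hai]
      calc a * (a * x * a * x) = (a * a) * x * a * x := by group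
        _ = x * a * x * (a * a) := by rw [hA2 a ha]; group
        _ = _ := by group
    set D := (stab ρ (dlt ρ a).range).comap δ
    have hconj : ∀ (y : K) (s : G), s ∈ stab ρ (dlt ρ a).range →
        δ y * s * (δ y)⁻¹ ∈ stab ρ (dlt ρ a).range := fun y s hs =>
      conj_apply_mem ρ (range_invariant ρ (hcomm y))
        (range_invariant ρ (by rw [← map_inv]; exact hcomm y⁻¹)) hs
    haveI := hL.1
    have htop : commutator K ≤ D := by
      rw [commutator_def, Subgroup.commutator_le]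
      intro x _ z _
      show δ ⁅x, z⁆ ∈ stab ρ (dlt ρ a).range
      set e := b * δ x⁻¹ * b⁻¹ with he
      have h1 : δ x * e ∈ stab ρ (dlt ρ a).range := by
        rw [he, map_inv, ← mul_assoc, ← mul_assoc]
        exact Subgroup.mul_mem _ (hconj x b hba) (Subgroup.inv_mem _ hba)
      have hez : Commute e (δ z) := by
        have hbb : ∀ k ∈ K, ∀ l ∈ K, Commute (b * k * b⁻¹) (a * l * a⁻¹) := fun k hk l hl => by
          refine hS b hb a ha ?_ k hk l hl
          rw [inv_eq_of_mul_eq_one_right (hA2 b hb), hA b hb a ha]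
          exact habN
        have hb0 : ∀ k ∈ K, ∀ l ∈ K, Commute (b * k * b⁻¹) l := fun k hk l hl => by
          simpa using hS b hb 1 A.one_mem (by
            rwa [mul_one, inv_eq_of_mul_eq_one_right (hA2 b hb)]) k hk l hl
        have hba0 : ∀ k ∈ K, ∀ l ∈ K, Commute ((b * a) * k * (b * a)⁻¹) l := fun k hk l hl => by
          simpa using hS (b * a) (A.mul_mem hb ha) 1 A.one_mem (by
            rwa [mul_one, inv_eq_of_mul_eq_one_right (hA2 _ (A.mul_mem hb ha)), hA b hb a ha]) k hk l hl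
        have hbaa : ∀ k ∈ K, ∀ l ∈ K, Commute ((b * a) * k * (b * a)⁻¹) (a * l * a⁻¹) :=
          fun k hk l hl => by
            refine hS (b * a) (A.mul_mem hb ha) a ha ?_ k hk l hl
            rw [inv_eq_of_mul_eq_one_right (hA2 _ (A.mul_mem hb ha)), mul_assoc, hA2 a ha, mul_one]
            exact hbN
        have e1 : e = (b * (x⁻¹ : K) * b⁻¹) * ((b * a) * (x⁻¹ : K) * (b * a)⁻¹) := by
          show b * (((x⁻¹ : K) : G) * (a * (x⁻¹ : K) * a⁻¹)) * b⁻¹ = _
          group
        rw [e1]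
        refine Commute.mul_left (Commute.mul_right ?_ ?_) (Commute.mul_right ?_ ?_)
        exacts [hb0 _ (x⁻¹).2 _ z.2, hbb _ (x⁻¹).2 _ z.2, hba0 _ (x⁻¹).2 _ z.2, hbaa _ (x⁻¹).2 _ z.2]
      have h2 : δ ⁅x, z⁆ = ⁅δ x * e, δ z⁆ := by
        rw [map_commutatorElement, commutatorElement_def, commutatorElement_def, mul_inv_rev]
        calc δ x * δ z * (δ x)⁻¹ * (δ z)⁻¹ = δ x * δ z * (e * e⁻¹) * (δ x)⁻¹ * (δ z)⁻¹ := by group
          _ = δ x * (δ z * e) * e⁻¹ * (δ x)⁻¹ * (δ z)⁻¹ := by group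
          _ = δ x * (e * δ z) * e⁻¹ * (δ x)⁻¹ * (δ z)⁻¹ := by rw [hez.eq]
          _ = _ := by group
      rw [h2, commutatorElement_def, mul_assoc (δ x * e) (δ z), mul_assoc (δ x * e)]
      exact Subgroup.mul_mem _ h1 (hconj z _ (Subgroup.inv_mem _ h1))
    intro k hk
    exact trivMod_of_stab_range ρ (hcomm ⟨k, hk⟩)
      (htop (by rw [Group.IsPerfect.commutator_eq_top (G := K)]; trivial) :
        (⟨k, hk⟩ : K) ∈ D)
  have h1 := main a b ha hb haN hbN habN hba
  have h2 := main b a hb ha hbN haN (by rwa [hA b hb a ha]) hab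
  haveI := hL.1
  set F := (trivMod ρ ((dlt ρ a).ker ⊔ (dlt ρ b).ker)).subgroupOf K with hF
  have : commutator K ≤ F := by
    rw [commutator_def, Subgroup.commutator_le]
    intro x _ z _
    have e1 : Commute (x : G) (b * z * b⁻¹) := by
      simpa using hS 1 A.one_mem b hb (by simpa using hbN) x x.2 z z.2
    have e2 : Commute (a * x * a⁻¹) (z : G) := by
      simpa using hS a ha 1 A.one_mem (by
        rwa [mul_one, inv_eq_of_mul_eq_one_right (hA2 a ha)]) x x.2 z z.2
    have e3 : Commute (a * x * a⁻¹) (b * z * b⁻¹) := hS a ha b hb (by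
      rwa [inv_eq_of_mul_eq_one_right (hA2 a ha)]) x x.2 z z.2
    have e4 : ((⁅x, z⁆ : K) : G) =
        ⁅(x : G) * (a * x * a⁻¹), (z : G) * (b * z * b⁻¹)⁆ := by
      show ⁅(x : G), (z : G)⁆ = _
      generalize a * (x : G) * a⁻¹ = x', b * (z : G) * b⁻¹ = z' at e1 e2 e3
      simp only [commutatorElement_def, mul_inv_rev]
      calc (x : G) * z * (x : G)⁻¹ * (z : G)⁻¹
          = x * z * ((z' * x') * x'⁻¹ * z'⁻¹) * (x : G)⁻¹ * (z : G)⁻¹ := by group
        _ = x * z * ((x' * z') * x'⁻¹ * z'⁻¹) * (x : G)⁻¹ * (z : G)⁻¹ := by rw [e3.eq]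
        _ = x * (z * x') * z' * x'⁻¹ * (z'⁻¹ * (x : G)⁻¹) * (z : G)⁻¹ := by group
        _ = x * (x' * z) * z' * x'⁻¹ * ((x : G)⁻¹ * z'⁻¹) * (z : G)⁻¹ := by
            rw [e2.eq, (e1.symm.inv_inv).eq]
        _ = _ := by group
    rw [hF, Subgroup.mem_subgroupOf, e4, commutatorElement_def]
    have m1 := trivMod_mono ρ (le_sup_left (b := (dlt ρ b).ker)) (h1 x x.2)
    have m2 := trivMod_mono ρ (le_sup_right (a := (dlt ρ a).ker)) (h2 z z.2)
    exact Subgroup.mul_mem _ (Subgroup.mul_mem _ (Subgroup.mul_mem _ m1 m2)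
      (Subgroup.inv_mem _ m1)) (Subgroup.inv_mem _ m2)
  intro k hk
  exact (this (by rw [Group.IsPerfect.commutator_eq_top (G := K)]; trivial) : (⟨k, hk⟩ : K) ∈ F)

end Four

end Cfsg.Agent.Thompson.PGV
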