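import Mathlib
import Cfsg.Prelude.Def_PLocal
import Cfsg.Prelude.Def_CaseTheorems
import Cfsg.Agent.Lib.Thompson.PGV.Core
import Cfsg.Agent.Lib.CharCore.Burnside

/-!
The P(G,V)-theorem: an offender normalizes every component.
-/

set_option autoImplicit false
set_option linter.unusedVariables false
set_option linter.unusedSectionVars false
set_option linter.style.haveILetI false

namespace Cfsg.Agent.Thompson.PGV

open Cfsg
open scoped commutatorElement

/-- Subgroups containing `M`, any two generating everything, are at most `|Q : M| - 1` in number,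
each weighted by its index minus one. -/
theorem sum_index_le {Q : Type*} [AddCommGroup Q] [Finite Q] {T : Type*} [Fintype T]
    (M : AddSubgroup Q) (C : T → AddSubgroup Q) (hM : ∀ t, M ≤ C t)
    (h : ∀ s t, s ≠ t → C s ⊔ C t = ⊤) : (∑ t, ((C t).index - 1)) + 1 ≤ M.index := by
  classical
  haveI := Fintype.ofFinite (AddChar Q ℂ)
  let ann : AddSubgroup Q → Finset (AddChar Q ℂ) := fun C =>
    Finset.univ.filter fun χ => ∀ c ∈ C, χ c = 1
  have hann : ∀ C : AddSubgroup Q, (ann C).card = C.index := fun C => by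
    haveI := Fintype.ofFinite (Q ⧸ C)
    rw [AddSubgroup.index_eq_card, Nat.card_eq_fintype_card,
      ← AddChar.card_eq (α := Q ⧸ C)]
    rw [← Finset.card_univ]
    refine (Finset.card_bij (fun (ψ : AddChar (Q ⧸ C) ℂ) _ =>
      ψ.compAddMonoidHom (QuotientAddGroup.mk' C)) ?_ ?_ ?_).symm
    · intro ψ _
      simp only [ann, Finset.mem_filter, Finset.mem_univ, true_and]
      intro c hc
      show ψ (QuotientAddGroup.mk' C c) = 1
      rw [show QuotientAddGroup.mk' C c = 0 from (QuotientAddGroup.eq_zero_iff c).mpr hc,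
        AddChar.map_zero_eq_one]
    · intro ψ _ φ _ e
      refine DFunLike.ext _ _ fun x => ?_
      obtain ⟨v, rfl⟩ := QuotientAddGroup.mk'_surjective C x
      exact DFunLike.congr_fun e v
    · intro χ hχ
      simp only [ann, Finset.mem_filter, Finset.mem_univ, true_and] at hχ
      refine ⟨{ toFun := Quotient.lift χ fun a b hab => ?_
                map_zero_eq_one' := χ.map_zero_eq_one
                map_add_eq_mul' := ?_ }, Finset.mem_univ _, DFunLike.ext _ _ fun v => rfl⟩
      · have h1 := hχ _ (QuotientAddGroup.leftRel_apply.mp hab)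
        have h2 : χ a * χ (-a + b) = χ b := by
          rw [← AddChar.map_add_eq_mul, add_neg_cancel_left]
        rw [h1, mul_one] at h2
        exact h2
      · rintro ⟨a⟩ ⟨b⟩
        exact χ.map_add_eq_mul a b
  have h1 : (1 : AddChar Q ℂ) ∈ ann M := by simp [ann]
  have hdis : ((Finset.univ : Finset T) : Set T).PairwiseDisjoint fun t => (ann (C t)).erase 1 := by
    intro s _ t _ hst
    refine Finset.disjoint_left.mpr fun χ hχ hχ' => ?_
    simp only [Finset.mem_erase, ann, Finset.mem_filter, Finset.mem_univ, true_and] at hχ hχ'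
    refine hχ.1 (DFunLike.ext _ _ fun v => ?_)
    have hv : v ∈ C s ⊔ C t := by rw [h s t hst]; trivial
    obtain ⟨x, hx, y, hy, rfl⟩ := AddSubgroup.mem_sup.mp hv
    rw [AddChar.map_add_eq_mul, hχ.2 x hx, hχ'.2 y hy, mul_one, AddChar.one_apply]
  have hle : Finset.univ.biUnion (fun t => (ann (C t)).erase 1) ⊆ (ann M).erase 1 := by
    intro χ hχ
    simp only [Finset.mem_biUnion, Finset.mem_erase, ann, Finset.mem_filter, Finset.mem_univ,
      true_and] at hχ ⊢
    obtain ⟨t, hne, hk⟩ := hχ
    exact ⟨hne, fun c hc => hk c (hM t hc)⟩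
  have := Finset.card_le_card hle
  rw [Finset.card_biUnion hdis, Finset.card_erase_of_mem h1, hann M] at this
  have h3 : ∀ t, ((ann (C t)).erase 1).card = (C t).index - 1 := fun t => by
    rw [Finset.card_erase_of_mem (by simp [ann]), hann]
  rw [Finset.sum_congr rfl fun t _ => h3 t] at this
  have := Nat.pos_of_ne_zero (AddSubgroup.index_ne_zero_of_finite (H := M))
  omega

/-- A quasisimple group is no `p`-group modulo its centre. -/
theorem exists_prime_dvd_quotient {L : Type*} [Group L] [Finite L] (hL : IsQuasisimple L)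
    (p : ℕ) [hp : Fact p.Prime] :
    (∃ r, r.Prime ∧ r ≠ p ∧ r ∣ Nat.card (L ⧸ Subgroup.center L)) ∧
      ∃ r, r.Prime ∧ 5 ≤ r ∧ r ∣ Nat.card (L ⧸ Subgroup.center L) := by
  have hns : ¬ Group.IsSolvable (L ⧸ Subgroup.center L) := fun h => by
    haveI := h
    haveI : Group.IsSolvable (Subgroup.center L) := Group.isSolvable_of_comm fun a b => Subtype.ext (Subgroup.mem_center_iff.mp b.2 _)
    exact Components.not_isSolvable_of_isQuasisimple hL
      (Group.isSolvable_of_ker_le_range (Subgroup.center L).subtype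
        (QuotientGroup.mk' (Subgroup.center L)) (by simp))
  set n := Nat.card (L ⧸ Subgroup.center L) with hn
  have hn0 : n ≠ 0 := Nat.card_pos.ne'
  constructor
  · by_contra h
    push Not at h
    refine hns ?_
    have hpow : n = p ^ n.factorization p := by
      apply Nat.eq_pow_of_factorization_eq_single hn0
      ext r
      rcases eq_or_ne r p with rfl | hr
      · simp
      · rw [Finsupp.single_eq_of_ne hr]
        by_contra h0
        have hm : r ∈ n.primeFactors := by
          rw [← Nat.support_factorization, Finsupp.mem_support_iff]; exact h0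
        exact h r (Nat.prime_of_mem_primeFactors hm) hr (Nat.dvd_of_mem_primeFactors hm)
    haveI := (IsPGroup.of_card (p := p) hpow).isNilpotent
    infer_instance
  · by_contra h
    push Not at h
    refine hns (CharCore.isSolvable_of_card_eq_prime_pow_mul Nat.prime_two Nat.prime_three _ _
      (n.factorization 2) (n.factorization 3) rfl ?_)
    apply Nat.eq_of_factorization_eq hn0 (by positivity)
    intro r
    rw [Nat.factorization_mul (by positivity) (by positivity), Finsupp.add_apply,
      Nat.Prime.factorization_pow Nat.prime_two, Nat.Prime.factorization_pow Nat.prime_three]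
    rcases eq_or_ne r 2 with rfl | h2
    · simp
    rcases eq_or_ne r 3 with rfl | h3
    · simp
    rw [Finsupp.single_eq_of_ne h2, Finsupp.single_eq_of_ne h3, add_zero]
    by_contra h0
    have hm : r ∈ n.primeFactors := by
      rw [← Nat.support_factorization, Finsupp.mem_support_iff]; exact h0
    have hr := Nat.prime_of_mem_primeFactors hm
    have := h r hr
    have hd := Nat.dvd_of_mem_primeFactors hm
    rcases lt_or_ge r 5 with h5 | h5
    · interval_cases r <;> simp_all (config := { decide := true })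
    · exact this h5 hd

theorem exists_noncentral {L : Type*} [Group L] [Finite L] {r : ℕ} (hr : r.Prime)
    (hd : r ∣ Nat.card (L ⧸ Subgroup.center L)) :
    ∃ y : L, y ∉ Subgroup.center L ∧ ∃ n, y ^ r ^ n = 1 := by
  haveI := Fact.mk hr
  obtain ⟨R⟩ := (inferInstance : Nonempty (Sylow r L))
  by_contra h
  push Not at h
  have hle : (R : Subgroup L) ≤ Subgroup.center L := fun y hy => by
    obtain ⟨n, hn⟩ := R.isPGroup' ⟨y, hy⟩
    by_contra hy'
    exact h y hy' n (congrArg Subtype.val hn)
  refine R.not_dvd_index (hd.trans ?_)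
  rw [← Subgroup.index_eq_card]
  exact Subgroup.index_dvd_of_le hle

variable {G : Type*} [Group G] [Finite G] {V : Type*} [AddCommGroup V] [Finite V]
  (ρ : G →* AddMonoid.End V) {K A : Subgroup G} (hS : Splits K A) (hL : IsQuasisimple K)

/-- The elements of `K` acting trivially are central in `K`. -/
def KerCentral (K : Subgroup G) : Prop :=
  ∀ k ∈ K, ρ k = 1 → ∀ l ∈ K, k * l = l * k

include hS hL

theorem act_commute_eq {a y : G} (ha : a ∈ A) (haN : a ∉ Subgroup.normalizer (K : Set G))
    (hker : KerCentral ρ K) (hy : y ∈ K) (h : ρ (a * y * a⁻¹) = ρ y) :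
    (⟨y, hy⟩ : K) ∈ Subgroup.center K := by
  let f : K →* K := (MulAut.conj (⟨y, hy⟩ : K)).toMonoidHom
  refine Subgroup.mem_center_iff.mpr fun l => ?_
  have key := eq_id_of_central hL f (fun l => ?_) l
  · exact ((mul_inv_eq_iff_eq_mul.mp key)).symm
  · refine Subgroup.mem_center_iff.mpr fun m => Subtype.ext ?_
    refine (hker _ (SetLike.coe_mem _) ?_ _ m.2).symm
    show ρ ((l : G)⁻¹ * (y * l * y⁻¹)) = 1
    have hc : Commute ((l : G)⁻¹) (a * y * a⁻¹) := by
      simpa using hS 1 A.one_mem a ha (by simpa using haN) _ (K.inv_mem l.2) _ hy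
    rw [map_mul, map_mul, map_mul, ← h, ← mul_assoc, ← mul_assoc, ← map_mul, hc.eq,
      map_mul, mul_assoc (ρ _) (ρ (l : G)⁻¹), ← map_mul, inv_mul_cancel, map_one, mul_one,
      h, ← map_mul, mul_inv_cancel, map_one]

/-- For odd `p` a quadratic element normalizes `K`. -/
theorem quadratic_odd_false {p : ℕ} [hp : Fact p.Prime] (hp2 : p ≠ 2) (hV : ∀ v : V, p • v = 0)
    (hker : KerCentral ρ K) {b : G} (hb : b ∈ A) (hb1 : b ^ p = 1)
    (hbN : b ∉ Subgroup.normalizer (K : Set G)) (hq : b ∈ stab ρ (dlt ρ b).range) : False := by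
  set N : AddMonoid.End V := dlt ρ b with hN
  have hNN : N * N = 0 := AddMonoidHom.ext fun v => by
    show ρ b (dlt ρ b v) - dlt ρ b v = 0
    exact sub_eq_zero.mpr (hq _ ⟨v, rfl⟩)
  have hM : ρ b = 1 + N := by rw [hN, dlt]; abel
  have hM' : ρ b⁻¹ = 1 - N :=
    calc ρ b⁻¹ = ρ b⁻¹ * ((1 + N) * (1 - N)) := by
          rw [show (1 + N) * (1 - N) = 1 - N * N by noncomm_ring, hNN, sub_zero, mul_one]
      _ = ρ (b⁻¹ * b) * (1 - N) := by rw [map_mul, hM, mul_assoc]
      _ = 1 - N := by rw [inv_mul_cancel, map_one, one_mul]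
  have hpE : ∀ f : AddMonoid.End V, p • f = 0 := fun f => AddMonoidHom.ext fun v => by
    show p • f v = 0
    exact hV _
  have hunit : ∀ (m : ℕ) (f : AddMonoid.End V), ¬ p ∣ m → m • f = 0 → f = 0 := fun m f hm hf => by
    have h1 : addOrderOf f ∣ Nat.gcd m p :=
      Nat.dvd_gcd (addOrderOf_dvd_of_nsmul_eq_zero hf) (addOrderOf_dvd_of_nsmul_eq_zero (hpE f))
    rw [((Nat.Prime.coprime_iff_not_dvd hp.out).mpr hm).symm] at h1
    exact AddMonoid.addOrderOf_eq_one_iff.mp (Nat.dvd_one.mp h1)
  obtain ⟨⟨r, hr, hrp, hrd⟩, -⟩ := exists_prime_dvd_quotient hL p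
  obtain ⟨⟨y, hy⟩, hyc, n, hyn⟩ := exists_noncentral hr hrd
  refine hyc (act_commute_eq ρ hS hL hb hbN hker hy ?_)
  set Y := ρ y with hY
  have hY1 : ρ (b * y * b⁻¹) = Y + (N * Y - Y * N) - N * Y * N := by
    rw [map_mul, map_mul, hM, hM']; noncomm_ring
  have hb2 : b * b * y * (b * b)⁻¹ = b * (b * y * b⁻¹) * b⁻¹ := by group
  have hY2 : ρ (b * b * y * (b * b)⁻¹) = Y + 2 • (N * Y - Y * N) - 4 • (N * Y * N) := by
    rw [hb2, map_mul, map_mul, hY1, hM, hM']
    have e1 : N * (N * Y) = 0 := by rw [← mul_assoc, hNN, zero_mul]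
    have e2 : Y * N * N = 0 := by rw [mul_assoc, hNN, mul_zero]
    have : (1 + N) * (Y + (N * Y - Y * N) - N * Y * N) * (1 - N) =
        Y + 2 • (N * Y - Y * N) - 4 • (N * Y * N) + (N * (N * Y) + Y * N * N
          - 2 • (N * (N * Y)) * N + 2 • (N * (Y * N * N)) + N * (N * Y) * N * N
          ) := by noncomm_ring
    rw [this, e1, e2]
    noncomm_ring
  have hbi : ∀ i : ℤ, ¬ (p : ℤ) ∣ i → b ^ i ∉ Subgroup.normalizer (K : Set G) :=
    fun i hi => pow_notMem_normalizer hb1 hbN hi
  have hc1 : Commute Y (ρ (b * y * b⁻¹)) := by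
    have : Commute y (b * y * b⁻¹) := by
      simpa using hS 1 A.one_mem b hb (by simpa using hbN) y hy y hy
    exact this.map ρ
  have hc2 : Commute Y (ρ (b * b * y * (b * b)⁻¹)) := by
    have : Commute y (b * b * y * (b * b)⁻¹) := by
      simpa using hS 1 A.one_mem (b * b) (A.mul_mem hb hb) (by
        rw [inv_one, one_mul, ← pow_two, ← zpow_natCast]
        exact hbi 2 fun hd => hp2 ((Nat.prime_dvd_prime_iff_eq hp.out Nat.prime_two).mp
          (Int.natCast_dvd_natCast.mp hd))) y hy y hy
    exact this.map ρ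
  set P := N * Y - Y * N with hP
  set Q := N * Y * N with hQ
  rw [hY1] at hc1 ⊢
  rw [hY2] at hc2
  have h1 : Y * P - P * Y = Y * Q - Q * Y := by
    have e : (Y * P - P * Y) - (Y * Q - Q * Y) = Y * (Y + P - Q) - (Y + P - Q) * Y := by
      noncomm_ring
    rw [hc1.eq, sub_self] at e
    exact sub_eq_zero.mp e
  have h2 : 2 • (Y * P - P * Y) = 4 • (Y * Q - Q * Y) := by
    have e : 2 • (Y * P - P * Y) - 4 • (Y * Q - Q * Y) =
        Y * (Y + 2 • P - 4 • Q) - (Y + 2 • P - 4 • Q) * Y := by noncomm_ring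
    rw [hc2.eq, sub_self] at e
    exact sub_eq_zero.mp e
  have hYQ : Y * Q - Q * Y = 0 := by
    refine hunit 2 _ (fun hd => hp2 ((Nat.prime_dvd_prime_iff_eq hp.out Nat.prime_two).mp hd)) ?_
    rw [h1] at h2
    calc 2 • (Y * Q - Q * Y) = 4 • (Y * Q - Q * Y) - 2 • (Y * Q - Q * Y) := by abel
      _ = 0 := by rw [← h2, sub_self]
  have hYP : Y * P = P * Y := sub_eq_zero.mp (h1.trans hYQ)
  have hpow : ∀ m : ℕ, (N * Y ^ m - Y ^ m * N) * Y = m • (Y ^ m * P) := by
    intro m
    induction m with
    | zero => simp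
    | succ m ih =>
      have hcm : Y * (Y ^ m * P) = Y ^ (m + 1) * P := by rw [← mul_assoc, ← pow_succ']
      calc (N * Y ^ (m + 1) - Y ^ (m + 1) * N) * Y
          = P * Y ^ m * Y + Y * ((N * Y ^ m - Y ^ m * N) * Y) := by
            rw [hP, pow_succ']; noncomm_ring
        _ = Y ^ (m + 1) * P + m • (Y ^ (m + 1) * P) := by
            rw [ih, mul_smul_comm, hcm, mul_assoc, ← pow_succ]
            exact congrArg (· + _) ((Commute.pow_left hYP (m + 1)).eq).symm
        _ = _ := by rw [succ_nsmul']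
  have hYr : Y ^ (r ^ n) = 1 := by
    rw [hY, ← map_pow, show y ^ r ^ n = 1 from congrArg Subtype.val hyn, map_one]
  have hP0 : P = 0 := by
    refine hunit (r ^ n) P (fun hd => hrp ((Nat.prime_dvd_prime_iff_eq hp.out hr).mp
      (hp.out.dvd_of_dvd_pow hd)).symm) ?_
    have h := hpow (r ^ n)
    rw [hYr, mul_one, one_mul, sub_self, zero_mul, one_mul] at h
    exact h.symm
  have hQ0 : Q = 0 := by
    rw [hQ, mul_assoc, show Y * N = N * Y from (sub_eq_zero.mp (hP ▸ hP0)).symm, ← mul_assoc, hNN,
      zero_mul]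
  rw [hP0, hQ0, add_zero, sub_zero]

/-- A transvection normalizes `K`. -/
theorem transvection_false (hV : ∀ v : V, 2 • v = 0) (hker : KerCentral ρ K) {a : G} (ha : a ∈ A)
    (haN : a ∉ Subgroup.normalizer (K : Set G)) (hidx : (dlt ρ a).ker.index ≤ 2) : False := by
  classical
  obtain ⟨-, r, hr, hr5, hrd⟩ := exists_prime_dvd_quotient hL 2
  obtain ⟨⟨y, hy⟩, hyc, n, hyn⟩ := exists_noncentral hr hrd
  refine hyc (act_commute_eq ρ hS hL ha haN hker hy ?_)
  set C := (dlt ρ a).ker with hC
  set d := y⁻¹ * (a * y * a⁻¹) with hd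
  set F := C ⊓ C.comap (ρ y) with hF
  have hfix : ∀ v ∈ F, ρ d v = v := fun v hv => by
    have h1 : ρ a v = v := sub_eq_zero.mp hv.1
    have h2 : ρ a (ρ y v) = ρ y v := sub_eq_zero.mp hv.2
    have h3 : ρ a⁻¹ v = v := by
      conv_lhs => rw [← h1]
      exact act_inv_self ρ a v
    rw [hd, act_mul, act_mul, act_mul, h3, h2, act_inv_self]
  have hidx' : F.index ≤ 4 := by
    have h0 := AddSubgroup.index_inf_le (H := C) (K := C.comap (ρ y))
    have h1 : (C.comap (ρ y)).index = C.index :=
      AddSubgroup.index_comap_of_surjective _ fun v => ⟨ρ y⁻¹ v, act_self_inv ρ y v⟩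
    rw [h1] at h0
    exact h0.trans (Nat.mul_le_mul hidx hidx)
  have hyr : y ^ r ^ n = 1 := congrArg Subtype.val hyn
  have hdr : d ^ r ^ n = 1 := by
    have hc : Commute y⁻¹ (a * y * a⁻¹) := by
      simpa using hS 1 A.one_mem a ha (by simpa using haN) _ (K.inv_mem hy) _ hy
    rw [hd, hc.mul_pow, inv_pow, hyr, inv_one, one_mul,
      ← MulAut.conj_apply, ← map_pow, hyr, map_one]
  have hdF : ∀ v, ρ d v - v ∈ F := fun v => by
    by_contra hv
    let e : V ⧸ F → V ⧸ F := Quotient.lift (fun w => (QuotientAddGroup.mk (ρ d w) : V ⧸ F))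
      fun a b hab => by
        rw [QuotientAddGroup.eq, ← map_neg, ← map_add]
        have h1 := QuotientAddGroup.leftRel_apply.mp hab
        rwa [hfix _ h1]
    have hit : ∀ (k : ℕ) (w : V),
        e^[k] (QuotientAddGroup.mk w) = QuotientAddGroup.mk (ρ (d ^ k) w) := by
      intro k
      induction k with
      | zero => intro w; simp
      | succ k ih => intro w; rw [Function.iterate_succ_apply', ih, pow_succ', act_mul]; rfl
    set x : V ⧸ F := QuotientAddGroup.mk v
    have hper : Function.IsPeriodicPt e (r ^ n) x := by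
      show e^[r ^ n] x = x
      rw [hit, hdr, act_one]
    obtain ⟨k, -, hk⟩ := (Nat.dvd_prime_pow hr).mp hper.minimalPeriod_dvd
    have hk0 : k ≠ 0 := fun h => by
      rw [h, pow_zero] at hk
      have : e x = x := by
        have := Function.isPeriodicPt_minimalPeriod e x
        rw [hk] at this
        exact this
      refine hv ?_
      have h' : (QuotientAddGroup.mk (ρ d v) : V ⧸ F) = QuotientAddGroup.mk v := this
      rwa [QuotientAddGroup.eq, ← neg_mem_iff, neg_add, neg_neg, ← sub_eq_add_neg] at h'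
    haveI := Fintype.ofFinite (V ⧸ F)
    have hcard : Function.minimalPeriod e x ≤ Nat.card (V ⧸ F) := by
      rw [Nat.card_eq_fintype_card]
      calc Function.minimalPeriod e x = (Finset.range (Function.minimalPeriod e x)).card := by simp
        _ ≤ Fintype.card (V ⧸ F) := Finset.card_le_card_of_injOn (fun i => e^[i] x)
            (fun i _ => Finset.mem_univ _) (fun i hi j hj h => (Function.iterate_eq_iterate_iff_of_lt_minimalPeriod
              (Finset.mem_range.mp hi) (Finset.mem_range.mp hj)).mp h)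
    rw [hk, ← AddSubgroup.index_eq_card] at hcard
    have : r ≤ r ^ k := Nat.le_self_pow hk0 r
    omega
  have hd2 : ρ (d * d) = 1 := AddMonoidHom.ext fun v => by
    show ρ (d * d) v = v
    rw [act_mul]
    have h := hfix _ (hdF v)
    rw [map_sub] at h
    calc ρ d (ρ d v) = (ρ d (ρ d v) - ρ d v) + ρ d v := by abel
      _ = 2 • ρ d v - v := by rw [h, two_nsmul]; abel
      _ = 0 - v := by rw [hV]
      _ = v := by
        have : v + v = 0 := (two_nsmul v).symm.trans (hV v)
        rw [zero_sub, neg_eq_iff_add_eq_zero, this]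
  have hodd : Odd (r ^ n) := (hr.odd_of_ne_two (by omega)).pow
  obtain ⟨m, hm⟩ := hodd
  have hd1 : ρ d = 1 := by
    have h : ρ (d ^ r ^ n) = 1 := by rw [hdr, map_one]
    rw [hm, pow_succ, map_mul, pow_mul, pow_two, map_pow, hd2, one_pow, one_mul] at h
    exact h
  rw [hd, map_mul] at hd1
  calc ρ (a * y * a⁻¹) = ρ (y * y⁻¹) * ρ (a * y * a⁻¹) := by rw [mul_inv_cancel, map_one, one_mul]
    _ = ρ y * (ρ y⁻¹ * ρ (a * y * a⁻¹)) := by rw [map_mul, mul_assoc]
    _ = ρ y := by rw [hd1, mul_one]

end Cfsg.Agent.Thompson.PGV
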