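import Mathlib
import Cfsg.Prelude.Def_PLocal
import Cfsg.Prelude.Def_CaseTheorems
import Cfsg.Agent.Lib.Thompson.PGV.Main

/-!
The P(G,V)-theorem: reduction and induction.
-/

set_option autoImplicit false
set_option linter.unusedVariables false
set_option linter.unusedSectionVars false
set_option linter.style.haveILetI false

namespace Cfsg.Agent.Thompson.PGV

open Cfsg
open scoped commutatorElement

universe v

variable {G : Type*} [Group G] [Finite G] {K A : Subgroup G} (hS : Splits K A)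
  (hL : IsQuasisimple K) (hA : ∀ x ∈ A, ∀ y ∈ A, x * y = y * x) (htop : K ⊔ A = ⊤)

theorem normal_of_invariant {F : Subgroup G} (hF : ∀ a ∈ A, ∀ f ∈ F, a * f * a⁻¹ ∈ F)
    (hKF : K ≤ F) (ht : K ⊔ A = ⊤) : Subgroup.normalClosure (K : Set G) ≤ F := by
  have hn : Subgroup.normalizer (F : Set G) = ⊤ := by
    rw [eq_top_iff, ← ht]
    refine sup_le (hKF.trans Subgroup.le_normalizer) fun a ha => ?_
    rw [Subgroup.mem_normalizer_iff]
    exact fun f => ⟨fun hf => hF a ha f hf, fun hf => by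
      have := hF a⁻¹ (A.inv_mem ha) _ hf
      simpa [mul_assoc] using this⟩
  haveI : F.Normal := Subgroup.normalizer_eq_top_iff.mp hn
  exact Subgroup.normalClosure_le_normal hKF

include hS hL in
theorem le_of_moving {N : Subgroup G} [N.Normal] {a : G} (ha : a ∈ A) (haN' : a ∈ N)
    (haN : a ∉ Subgroup.normalizer (K : Set G)) : K ≤ N := by
  haveI := hL.1
  have : commutator K ≤ N.subgroupOf K := by
    rw [commutator_def, Subgroup.commutator_le]
    intro x _ z _
    set w : G := a * (x : G)⁻¹ * a⁻¹ with hw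
    have hxw : (x : G) * w ∈ N := by
      rw [show (x : G) * w = ((x : G) * a * (x : G)⁻¹) * a⁻¹ by rw [hw]; group]
      exact N.mul_mem (Subgroup.Normal.conj_mem inferInstance a haN' x) (N.inv_mem haN')
    have hwz : Commute w (z : G) := by
      simpa [hw] using hS a ha 1 A.one_mem (by
        rwa [mul_one, inv_mem_iff]) _ (K.inv_mem x.2) _ z.2
    rw [Subgroup.mem_subgroupOf]
    show ⁅(x : G), (z : G)⁆ ∈ N
    have e : ⁅(x : G), (z : G)⁆ = ((x : G) * w) * (z : G) * ((x : G) * w)⁻¹ * (z : G)⁻¹ := by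
      rw [commutatorElement_def]
      calc (x : G) * z * (x : G)⁻¹ * (z : G)⁻¹ = x * ((z : G) * w) * w⁻¹ * (x : G)⁻¹ * (z : G)⁻¹ := by group
        _ = x * (w * (z : G)) * w⁻¹ * (x : G)⁻¹ * (z : G)⁻¹ := by rw [hwz.eq]
        _ = _ := by group
    rw [e, mul_assoc ((x : G) * w) (z : G), mul_assoc ((x : G) * w)]
    exact N.mul_mem hxw (Subgroup.Normal.conj_mem inferInstance _ (N.inv_mem hxw) z)
  intro k hk
  exact (this (by rw [Group.IsPerfect.commutator_eq_top (G := K)]; trivial) :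
    (⟨k, hk⟩ : K) ∈ N.subgroupOf K)

include hL in
theorem le_commutator_normalClosure :
    Subgroup.normalClosure (K : Set G) ≤
      ⁅Subgroup.normalClosure (K : Set G), Subgroup.normalClosure (K : Set G)⁆ := by
  refine Subgroup.normalClosure_le_normal ?_
  haveI := hL.1
  have h : (⁅K, K⁆ : Subgroup G) = K := by
    rw [← Subgroup.map_subtype_commutator, Group.IsPerfect.commutator_eq_top (G := K),
      ← MonoidHom.range_eq_map, Subgroup.range_subtype]
  exact h.ge.trans (Subgroup.commutator_mono Subgroup.subset_normalClosure Subgroup.subset_normalClosure)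

section Module

variable {V : Type*} [AddCommGroup V] (ρ : G →* AddMonoid.End V)

include hL in
theorem additive_eq_zero (f : G → V) (hf : ∀ g ∈ Subgroup.normalClosure (K : Set G),
    ∀ h ∈ Subgroup.normalClosure (K : Set G), f (g * h) = f g + f h) {g : G}
    (hg : g ∈ Subgroup.normalClosure (K : Set G)) : f g = 0 := by
  set L := Subgroup.normalClosure (K : Set G) with hLdef
  let φ : L →* Multiplicative V := MonoidHom.mk' (fun x => Multiplicative.ofAdd (f x))
    fun x y => congrArg Multiplicative.ofAdd (hf x x.2 y y.2)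
  have hc : commutator L = ⊤ := by
    apply Subgroup.map_injective L.subtype_injective
    rw [Subgroup.map_subtype_commutator, ← MonoidHom.range_eq_map, Subgroup.range_subtype]
    exact le_antisymm (Subgroup.commutator_le.mpr fun a ha b hb =>
      L.mul_mem (L.mul_mem (L.mul_mem ha hb) (L.inv_mem ha)) (L.inv_mem hb))
      (le_commutator_normalClosure hL)
  have : (⟨g, hg⟩ : L) ∈ φ.ker :=
    Abelianization.commutator_subset_ker φ (by rw [hc]; trivial)
  exact congrArg Multiplicative.toAdd (MonoidHom.mem_ker.mp this)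

include hA in
theorem ker_invariant {a : G} (ha : a ∈ A) {g : G} (hg : g ∈ A) :
    ∀ v ∈ (dlt ρ a).ker, ρ g v ∈ (dlt ρ a).ker := fun v hv => by
  show dlt ρ a (ρ g v) = 0
  rw [dlt_comm ρ (hA a ha g hg)]
  exact (congrArg (ρ g) hv).trans (map_zero _)

include htop in
theorem com_le_of_trivMod {Y : AddSubgroup V} (hY : ∀ g ∈ A, ∀ y ∈ Y, ρ g y ∈ Y)
    (h : K ≤ trivMod ρ Y) : com ρ (Subgroup.normalClosure (K : Set G)) ≤ Y := by
  rw [com_le_iff]
  refine normal_of_invariant (fun a ha f hf v => ?_) h htop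
  have e : dlt ρ (a * f * a⁻¹) v = ρ a (dlt ρ f (ρ a⁻¹ v)) := by
    simp only [dlt_apply, map_sub, act_mul, act_self_inv]
  rw [e]
  exact hY a ha _ (hf _)

include hA htop in
theorem sup_eq_top {a b : G} (ha : a ∈ A) (hb : b ∈ A)
    (hcom : com ρ (Subgroup.normalClosure (K : Set G)) = ⊤)
    (h : K ≤ trivMod ρ ((dlt ρ a).ker ⊔ (dlt ρ b).ker)) :
    (dlt ρ a).ker ⊔ (dlt ρ b).ker = ⊤ := by
  rw [eq_top_iff, ← hcom]
  refine com_le_of_trivMod htop ρ (fun g hg y hy => ?_) h
  obtain ⟨y₁, h₁, y₂, h₂, rfl⟩ := AddSubgroup.mem_sup.mp hy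
  rw [map_add]
  exact AddSubgroup.add_mem_sup (ker_invariant hA ρ ha hg y₁ h₁) (ker_invariant hA ρ hb hg y₂ h₂)

variable [Finite V]

include hS hL hA htop

/-- No element of a quadratic offender moves a component, `p = 2`. -/
theorem core_two (hA2 : ∀ x ∈ A, x * x = 1) (hV : ∀ v : V, 2 • v = 0) (hker : KerCentral ρ K)
    (hcom : com ρ (Subgroup.normalClosure (K : Set G)) = ⊤) {B : Subgroup G} (hBA : B ≤ A)
    (hq : ∀ b ∈ B, B ≤ stab ρ (dlt ρ b).range)
    (hidx : (fix ρ B).index ≤ (Subgroup.centralizer (K : Set G)).relIndex B)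
    {b₀ : G} (hb₀ : b₀ ∈ B) (hb₀N : b₀ ∉ Subgroup.normalizer (K : Set G)) : False := by
  classical
  set B2 := (Subgroup.centralizer (K : Set G)).subgroupOf B with hB2
  haveI : Fintype (B ⧸ B2) := Fintype.ofFinite _
  have hiff : ∀ x : B, ((x : G) ∈ Subgroup.normalizer (K : Set G) ↔
      (((QuotientGroup.mk x : B ⧸ B2).out : B) : G) ∈ Subgroup.normalizer (K : Set G)) := fun x => by
    obtain ⟨h, hh⟩ := QuotientGroup.mk_out_eq_mul B2 x
    rw [hh, Subgroup.coe_mul]
    exact (Subgroup.mul_mem_cancel_right _ (Subgroup.centralizer_le_normalizer _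
      (Subgroup.mem_subgroupOf.mp h.2))).symm
  let T := {t : B ⧸ B2 // ((t.out : B) : G) ∉ Subgroup.normalizer (K : Set G)}
  haveI : Fintype T := Fintype.ofFinite _
  let C : T → AddSubgroup V := fun t => (dlt ρ ((t.1.out : B) : G)).ker
  have hpair : ∀ s t : T, s ≠ t → C s ⊔ C t = ⊤ := by
    intro s t hne
    set x : G := ((s.1.out : B) : G) with hx
    set y : G := ((t.1.out : B) : G) with hy
    have hxA : x ∈ A := hBA s.1.out.2
    have hyA : y ∈ A := hBA t.1.out.2
    refine sup_eq_top hA htop ρ hxA hyA hcom ?_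
    by_cases hn : x * y ∈ Subgroup.normalizer (K : Set G)
    · have hxi : x⁻¹ = x := inv_eq_of_mul_eq_one_right (hA2 x hxA)
      have hnc : x * y ∉ Subgroup.centralizer (K : Set G) := fun h => hne (Subtype.ext (by
        rw [← QuotientGroup.out_eq' s.1, ← QuotientGroup.out_eq' t.1, QuotientGroup.eq]
        refine Subgroup.mem_subgroupOf.mpr ?_
        simpa [← hx, ← hy, hxi] using h))
      have hxyB : x * y ∈ B := B.mul_mem s.1.out.2 t.1.out.2
      haveI : Fact (Nat.Prime 2) := ⟨Nat.prime_two⟩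
      have := (pair_spec ρ (p := 2) hS hxA (by rw [pow_two]; exact hA2 x hxA) s.2 hn
        (hA x hxA _ (hBA hxyB)) hL (hq x s.1.out.2 hxyB) hnc hA (hBA hxyB)
        (by rw [pow_two]; exact hA2 _ (hBA hxyB)) (hq _ hxyB hxyB)).2
      rwa [← mul_assoc, hA2 x hxA, one_mul] at this
    · exact four_spec ρ hS hL hA hA2 hxA hyA s.2 t.2 hn (hq x s.1.out.2 t.1.out.2)
        (hq y t.1.out.2 s.1.out.2)
  have hM : ∀ t : T, fix ρ B ≤ C t := fun t v hv => sub_eq_zero.mpr (hv _ t.1.out.2)
  have hsum := sum_index_le (fix ρ B) C hM hpair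
  have h3 : ∀ t : T, 3 ≤ (C t).index := fun t => by
    by_contra h
    have h2 : (C t).index ≤ 2 := by omega
    exact transvection_false ρ hS hL hV hker (hBA t.1.out.2) t.2 h2
  have hT : Fintype.card (B ⧸ B2) ≤ 2 * Fintype.card T := by
    let e : {t : B ⧸ B2 // ¬ ((t.out : B) : G) ∉ Subgroup.normalizer (K : Set G)} → T := fun t =>
      ⟨QuotientGroup.mk (t.1.out * ⟨b₀, hb₀⟩), fun h =>
        hb₀N ((Subgroup.mul_mem_cancel_left _ (not_not.mp t.2)).mp ((hiff _).mpr h))⟩
    have he : Function.Injective e := fun s t h => Subtype.ext (by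
      have h1 := congrArg Subtype.val h
      simp only [e] at h1
      rw [QuotientGroup.eq] at h1
      rw [← QuotientGroup.out_eq' s.1, ← QuotientGroup.out_eq' t.1, QuotientGroup.eq]
      have hc : ∀ u v : B, u * v = v * u := fun u v => Subtype.ext (hA _ (hBA u.2) _ (hBA v.2))
      rwa [mul_inv_rev, mul_assoc, ← mul_assoc s.1.out⁻¹, hc _ ⟨b₀, hb₀⟩, inv_mul_cancel_left] at h1)
    have h1 := Fintype.card_subtype_compl (fun t : B ⧸ B2 => ((t.out : B) : G) ∉ Subgroup.normalizer (K : Set G))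
    have h2 := Fintype.card_le_of_injective e he
    have h4 : Fintype.card T = Fintype.card {t : B ⧸ B2 // ((t.out : B) : G) ∉ Subgroup.normalizer (K : Set G)} :=
      Fintype.card_congr (Equiv.refl _)
    have h5 := Fintype.card_subtype_le (fun t : B ⧸ B2 => ((t.out : B) : G) ∉ Subgroup.normalizer (K : Set G))
    omega
  have h6 : 2 * Fintype.card T ≤ ∑ t : T, ((C t).index - 1) := by
    calc 2 * Fintype.card T = ∑ _t : T, 2 := by simp [mul_comm]
      _ ≤ _ := Finset.sum_le_sum fun t _ => by have := h3 t; omega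
  have hidx' : (fix ρ B).index ≤ Fintype.card (B ⧸ B2) := by
    rw [← Nat.card_eq_fintype_card, ← Subgroup.index_eq_card]
    exact hidx
  omega

/-- A quadratic offender centralizes every component moved by its overgroup. -/
theorem core_norm {p : ℕ} [hp : Fact p.Prime] (hAp : ∀ x ∈ A, x ^ p = 1)
    (hnt : ∃ k ∈ K, ρ k ≠ 1)
    (hcom : com ρ (Subgroup.normalClosure (K : Set G)) = ⊤)
    (hfix : fix ρ (Subgroup.normalClosure (K : Set G)) = ⊥) {B : Subgroup G} (hBA : B ≤ A)
    (hBN : B ≤ Subgroup.normalizer (K : Set G))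
    (hq : ∀ b ∈ B, B ≤ stab ρ (dlt ρ b).range) {a : G} (ha : a ∈ A)
    (haN : a ∉ Subgroup.normalizer (K : Set G)) (haB : B ≤ stab ρ (dlt ρ a).range)
    (hidx : (fix ρ B).index ≤ (Subgroup.centralizer (K : Set G)).relIndex B)
    {c : G} (hc : c ∈ B) (hcn : c ∉ Subgroup.centralizer (K : Set G)) : False := by
  classical
  set B2 := (Subgroup.centralizer (K : Set G)).subgroupOf B with hB2
  haveI : Fintype (B ⧸ B2) := Fintype.ofFinite _
  have hpair : ∀ x ∈ A, x ∉ Subgroup.normalizer (K : Set G) → B ≤ stab ρ (dlt ρ x).range →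
      ∀ d ∈ B, d ∉ Subgroup.centralizer (K : Set G) →
        K ≤ stab ρ ((dlt ρ x).range ⊓ (dlt ρ (x * d)).range) ∧
          K ≤ trivMod ρ ((dlt ρ x).ker ⊔ (dlt ρ (x * d)).ker) := fun x hx hxN hxB d hd hdn =>
    pair_spec ρ hS hx (hAp x hx) hxN (hBN hd) (hA x hx d (hBA hd)) hL (hxB hd) hdn hA (hBA hd)
      (hAp d (hBA hd)) (hq d hd hd)
  have hMa : ∀ v ∈ fix ρ B, ρ a v = v := fun v hv => by
    set w := dlt ρ a v with hw
    have hwX : w ∈ (dlt ρ a).range ⊓ (dlt ρ (a * c)).range :=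
      ⟨⟨v, rfl⟩, ⟨v, by
        show ρ (a * c) v - v = ρ a v - v
        rw [act_mul, hv c hc]⟩⟩
    have hinv : ∀ g ∈ A, ∀ x ∈ (dlt ρ a).range ⊓ (dlt ρ (a * c)).range,
        ρ g x ∈ (dlt ρ a).range ⊓ (dlt ρ (a * c)).range := fun g hg x hx =>
      ⟨range_invariant ρ (hA a ha g hg) x hx.1,
        range_invariant ρ (hA _ (A.mul_mem ha (hBA hc)) g hg) x hx.2⟩
    have h := normal_of_invariant (F := stab ρ ((dlt ρ a).range ⊓ (dlt ρ (a * c)).range))
      (fun g hg s hs => conj_apply_mem ρ (hinv g hg) (hinv g⁻¹ (A.inv_mem hg)) hs)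
      (hpair a ha haN haB c hc hcn).1 htop
    have hw0 : w ∈ fix ρ (Subgroup.normalClosure (K : Set G)) := fun g hg => h hg w hwX
    rw [hfix, AddSubgroup.mem_bot, hw, dlt_apply, sub_eq_zero] at hw0
    exact hw0
  let x : B ⧸ B2 → G := fun t => a * ((t.out : B) : G)
  let C : B ⧸ B2 → AddSubgroup V := fun t => (dlt ρ (x t)).ker
  have hxN : ∀ t, x t ∉ Subgroup.normalizer (K : Set G) := fun t h =>
    haN ((Subgroup.mul_mem_cancel_right _ (hBN t.out.2)).mp h)
  have hxB : ∀ t, B ≤ stab ρ (dlt ρ (x t)).range := fun t d hd => by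
    rintro _ ⟨v, rfl⟩
    have e : dlt ρ (x t) v = dlt ρ a (ρ (t.out : B) v) + dlt ρ (t.out : B) v := by
      simp only [x, dlt_apply, act_mul]
      abel
    show ρ d (dlt ρ (x t) v) = dlt ρ (x t) v
    rw [e, map_add]
    exact congrArg₂ _ (haB hd _ ⟨_, rfl⟩) (hq _ t.out.2 hd _ ⟨_, rfl⟩)
  have hsup : ∀ s t, s ≠ t → C s ⊔ C t = ⊤ := by
    intro s t hne
    set d : B := s.out⁻¹ * t.out with hd
    have hdn : (d : G) ∉ Subgroup.centralizer (K : Set G) := fun h => hne (by
      rw [← QuotientGroup.out_eq' s, ← QuotientGroup.out_eq' t, QuotientGroup.eq]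
      exact Subgroup.mem_subgroupOf.mpr h)
    have hxA : x s ∈ A := A.mul_mem ha (hBA s.out.2)
    have e : x s * (d : G) = x t := by
      simp only [x, hd, Subgroup.coe_mul, Subgroup.coe_inv]
      group
    have h := (hpair (x s) hxA (hxN s) (hxB s) d d.2 hdn).2
    rw [e] at h
    exact sup_eq_top hA htop ρ hxA (A.mul_mem ha (hBA t.out.2)) hcom h
  have hM : ∀ t, fix ρ B ≤ C t := fun t v hv => by
    show ρ (a * ((t.out : B) : G)) v - v = 0
    rw [act_mul, hv _ t.out.2, hMa v hv, sub_self]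
  have hne : ∀ t, 2 ≤ (C t).index := fun t => by
    by_contra h
    have h0 := AddSubgroup.index_ne_zero_of_finite (H := C t)
    have h1 : C t = ⊤ := AddSubgroup.index_eq_one.mp (by omega)
    have hx1 : x t ∈ ρ.ker := AddMonoidHom.ext fun v => by
      have : v ∈ C t := by rw [h1]; trivial
      exact sub_eq_zero.mp this
    obtain ⟨k, hk, hk1⟩ := hnt
    exact hk1 (MonoidHom.mem_ker.mp (le_of_moving hS hL (A.mul_mem ha (hBA t.out.2)) hx1 (hxN t) hk))
  have hsum := sum_index_le (fix ρ B) C hM hsup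
  have h6 : Fintype.card (B ⧸ B2) ≤ ∑ t, ((C t).index - 1) := by
    calc Fintype.card (B ⧸ B2) = ∑ _t : B ⧸ B2, 1 := by simp
      _ ≤ _ := Finset.sum_le_sum fun t _ => by have := hne t; omega
  have hidx' : (fix ρ B).index ≤ Fintype.card (B ⧸ B2) := by
    rw [← Nat.card_eq_fintype_card, ← Subgroup.index_eq_card]
    exact hidx
  omega

omit [Finite V] in
omit hS hA htop in
theorem kerCentral_of_ne (hnt : ∃ k ∈ K, ρ k ≠ 1) : KerCentral ρ K := by
  intro k hk hk1 l hl
  rcases Components.normal_eq_top_or_le_center hL ((ρ.ker).subgroupOf K) with h | h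
  · obtain ⟨m, hm, hm1⟩ := hnt
    refine absurd ?_ hm1
    have : (⟨m, hm⟩ : K) ∈ ρ.ker.subgroupOf K := by rw [h]; trivial
    exact this
  · exact congrArg Subtype.val
      (Subgroup.mem_center_iff.mp (h (show (⟨k, hk⟩ : K) ∈ ρ.ker.subgroupOf K from hk1)) ⟨l, hl⟩).symm

end Module

include hS hL hA htop in
/-- **P(G,V)**: by induction on the order of the module. -/
theorem normalizes {p : ℕ} [hp : Fact p.Prime] (hAp : ∀ x ∈ A, x ^ p = 1) :
    ∀ (n : ℕ) (V : Type v) [AddCommGroup V] [Finite V] (ρ : G →* AddMonoid.End V),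
      Nat.card V = n → (∀ v : V, p • v = 0) → (∃ k ∈ K, ρ k ≠ 1) →
      (∀ B, B ≤ A → meas ρ B ≤ meas ρ A) → A ≤ Subgroup.normalizer (K : Set G) := by
  intro n
  induction n using Nat.strong_induction_on with
  | _ n ih =>
  intro V _ _ ρ hn hV hnt hmax a₁ ha₁
  by_contra ha₁N
  set L := Subgroup.normalClosure (K : Set G) with hLdef
  set B := A ⊓ stab ρ (com ρ A) with hB
  obtain ⟨hBm, hBfix⟩ := repl_com ρ hA hmax
  have hBA : B ≤ A := inf_le_left
  have hrange : ∀ x ∈ A, (dlt ρ x).range ≤ com ρ A := by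
    rintro x hx _ ⟨w, rfl⟩
    exact sub_mem_com ρ hx w
  have hq : ∀ x ∈ A, B ≤ stab ρ (dlt ρ x).range := fun x hx b hb w hw => hb.2 w (hrange x hx hw)
  -- the subquotient
  set B2 := B ⊓ Subgroup.centralizer (K : Set G) with hB2
  set W := com ρ L with hW
  have hWi : ∀ g, ∀ w ∈ W, ρ g w ∈ W := by
    intro g w hw
    refine AddSubgroup.closure_induction (p := fun w _ => ρ g w ∈ W) ?_ ?_ ?_ ?_ hw
    · rintro _ ⟨l, hl, v, rfl⟩
      have e : ρ g (ρ l v - v) = ρ (g * l * g⁻¹) (ρ g v) - ρ g v := by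
        rw [map_sub, act_mul, act_mul, act_inv_self]
      rw [e]
      exact sub_mem_com ρ (Subgroup.Normal.conj_mem inferInstance l hl g) _
    · simp only [map_zero]; exact W.zero_mem
    · intro x y _ _ hx hy; rw [map_add]; exact W.add_mem hx hy
    · intro x _ hx; rw [map_neg]; exact W.neg_mem hx
  set σ := subRep ρ W hWi with hσ
  have hσcom : com σ L = ⊤ := by
    have key : com ρ L ≤ (com σ L).map W.subtype := by
      rw [com_le_iff]
      intro g hg v
      set Y := (com σ L).map W.subtype with hY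
      have hY' : ∀ g ∈ L, ∀ w ∈ W, ρ g w - w ∈ Y := fun g hg w hw =>
        ⟨σ g ⟨w, hw⟩ - ⟨w, hw⟩, sub_mem_com σ hg _, rfl⟩
      have h0 := additive_eq_zero hL (V := V ⧸ Y) (fun g => QuotientAddGroup.mk (dlt ρ g v))
        (fun g hg h hh => by
          rw [← QuotientAddGroup.mk_add, QuotientAddGroup.eq]
          have h1 := hY' g hg _ (sub_mem_com ρ hh v)
          have e : -dlt ρ (g * h) v + (dlt ρ g v + dlt ρ h v) =
              -(ρ g (ρ h v - v) - (ρ h v - v)) := by
            simp only [dlt_apply, act_mul, map_sub]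
            abel
          rw [e]
          exact Y.neg_mem h1) hg
      exact (QuotientAddGroup.eq_zero_iff _).mp h0
    refine (eq_top_iff).mpr fun w _ => ?_
    obtain ⟨w', hw', e⟩ := key w.2
    rwa [Subtype.ext e] at hw'
  have hWnt : ∃ k ∈ K, σ k ≠ 1 := by
    by_contra hcon
    push Not at hcon
    obtain ⟨k, hk, hk1⟩ := hnt
    refine hk1 (AddMonoidHom.ext fun v => ?_)
    have hLfix : ∀ g ∈ L, ∀ w ∈ W, ρ g w = w := fun g hg w hw => by
      have h : L ≤ σ.ker := Subgroup.normalClosure_le_normal fun k hk => hcon k hk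
      exact congrArg Subtype.val (DFunLike.congr_fun (MonoidHom.mem_ker.mp (h hg)) ⟨w, hw⟩)
    have h0 := additive_eq_zero hL (fun g => dlt ρ g v) (fun g hg h hh => by
      rw [dlt_mul, hLfix g hg (dlt ρ h v) (sub_mem_com ρ hh v)]) (Subgroup.subset_normalClosure hk)
    exact sub_eq_zero.mp h0
  have hWidx : (fix σ B).index ≤ (Subgroup.centralizer (K : Set G)).relIndex B := by
    have hB2c : ∀ t ∈ B2, ∀ g : G, t * g = g * t := fun t ht g => by
      have : (⊤ : Subgroup G) ≤ Subgroup.centralizer ({t} : Set G) := by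
        rw [← htop, sup_le_iff]
        refine ⟨fun k hk => Subgroup.mem_centralizer_singleton_iff.mpr ?_,
          fun x hx => Subgroup.mem_centralizer_singleton_iff.mpr (hA x hx t (hBA ht.1))⟩
        exact Subgroup.mem_centralizer_iff.mp ht.2 k hk
      exact (Subgroup.mem_centralizer_singleton_iff.mp (this (Subgroup.mem_top g))).symm
    have hWfix : W ≤ fix ρ B2 := by
      set Y := fix ρ B2 with hY
      have hYi : ∀ g : G, ∀ y ∈ Y, ρ g y ∈ Y := fun g y hy t ht => by
        rw [act_comm ρ (hB2c t ht g), hy t ht]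
      haveI : (trivMod ρ Y).Normal := ⟨fun f hf g w => by
        have e : dlt ρ (g * f * g⁻¹) w = ρ g (dlt ρ f (ρ g⁻¹ w)) := by
          simp only [dlt_apply, map_sub, act_mul, act_self_inv]
        rw [e]
        exact hYi g _ (hf _)⟩
      have ha : a₁ ∈ trivMod ρ Y := fun w t ht => hq a₁ ha₁ ht.1 _ ⟨w, rfl⟩
      exact com_le_of_trivMod htop ρ (fun g _ => hYi g) (le_of_moving hS hL ha₁ ha ha₁N)
    have h1 : (fix σ B).index = (fix ρ B).relIndex W := by
      rw [AddSubgroup.relIndex]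
      congr 1
      ext w
      exact ⟨fun h b hb => congrArg Subtype.val (h b hb), fun h b hb => Subtype.ext (h b hb)⟩
    have h2 : (fix ρ B).relIndex W ≤ (fix ρ B).relIndex (fix ρ B2) :=
      AddSubgroup.relIndex_le_of_le_right hWfix AddSubgroup.index_ne_zero_of_finite
    have hle : fix ρ B ≤ fix ρ B2 := fix_anti ρ inf_le_left
    have h3 : Nat.card ↥(fix ρ B2) = Nat.card ↥(fix ρ B) * (fix ρ B).relIndex (fix ρ B2) := by
      rw [← AddSubgroup.relIndex_bot_left, ← AddSubgroup.relIndex_bot_left,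
        AddSubgroup.relIndex_mul_relIndex _ _ _ bot_le hle]
    have h4 : Nat.card B = Nat.card B2 * (Subgroup.centralizer (K : Set G)).relIndex B := by
      rw [← Subgroup.inf_relIndex_right, inf_comm, ← hB2, ← Subgroup.relIndex_bot_left,
        ← Subgroup.relIndex_bot_left, Subgroup.relIndex_mul_relIndex _ _ _ bot_le inf_le_left]
    have h5 : meas ρ B2 ≤ meas ρ B := hBm ▸ hmax B2 (inf_le_left.trans hBA)
    rw [meas, meas, h3, h4, mul_assoc, mul_comm _ (Nat.card ↥(fix ρ B))] at h5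
    rw [h1]
    refine h2.trans (Nat.le_of_mul_le_mul_left (Nat.le_of_mul_le_mul_left h5 Nat.card_pos) Nat.card_pos)
  have hσV : ∀ w : W, p • w = 0 := fun w => Subtype.ext (by simp [hV])
  have hσq : ∀ x ∈ A, B ≤ stab σ (dlt σ x).range := by
    rintro x hx b hb _ ⟨w, rfl⟩
    exact Subtype.ext (hq x hx hb _ ⟨(w : V), rfl⟩)
  -- step 1: `B` normalizes `K`
  have hBN : B ≤ Subgroup.normalizer (K : Set G) := by
    intro b hb
    by_contra hbN
    rcases eq_or_ne p 2 with rfl | hp2
    · exact core_two hS hL hA htop σ (fun x hx => by rw [← pow_two, hAp x hx]) hσV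
        (kerCentral_of_ne hL σ hWnt) hσcom hBA (fun x hx => hσq x (hBA hx)) hWidx hb hbN
    · exact quadratic_odd_false ρ hS hL hp2 hV (kerCentral_of_ne hL ρ hnt) (hBA hb)
        (hAp b (hBA hb)) hbN (hq b (hBA hb) hb)
  -- step 2: `B` centralizes `K`
  have hBC : B ≤ Subgroup.centralizer (K : Set G) := by
    intro c hc
    by_contra hcn
    set Z := fix σ L with hZ
    have hZi : ∀ g, ∀ z ∈ Z, σ g z ∈ Z := fun g z hz l hl => by
      have h := hz (g⁻¹ * l * g) (by
        simpa using Subgroup.Normal.conj_mem (inferInstance : L.Normal) l hl g⁻¹)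
      rw [act_mul, act_mul] at h
      conv_rhs => rw [← h]
      rw [act_self_inv]
    set τ := quotRep σ Z hZi with hτ
    have hτcom : com τ L = ⊤ := by
      refine (eq_top_iff).mpr fun x _ => ?_
      obtain ⟨w, rfl⟩ := QuotientAddGroup.mk'_surjective Z x
      have : com σ L ≤ (com τ L).comap (QuotientAddGroup.mk' Z) :=
        (com_le_iff σ).mpr fun g hg w => sub_mem_com τ hg (QuotientAddGroup.mk w)
      exact this (by rw [hσcom]; trivial)
    have hτfix : fix τ L = ⊥ := by
      refine (eq_bot_iff).mpr fun x hx => ?_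
      obtain ⟨w, rfl⟩ := QuotientAddGroup.mk'_surjective Z x
      have hz : ∀ g ∈ L, dlt σ g w ∈ Z := fun g hg => by
        have h := sub_eq_zero.mpr (hx g hg)
        exact (QuotientAddGroup.eq_zero_iff _).mp h
      rw [AddSubgroup.mem_bot]
      refine (QuotientAddGroup.eq_zero_iff _).mpr fun g hg => ?_
      exact sub_eq_zero.mp (additive_eq_zero hL (fun g => dlt σ g w) (fun g hg h hh => by
        rw [dlt_mul, hz h hh g hg]) hg)
    have hτnt : ∃ k ∈ K, τ k ≠ 1 := by
      by_contra hcon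
      push Not at hcon
      have h : L ≤ τ.ker := Subgroup.normalClosure_le_normal fun k hk => hcon k hk
      have hle : com σ L ≤ Z := (com_le_iff σ).mpr fun g hg w => by
        have h1 := DFunLike.congr_fun (MonoidHom.mem_ker.mp (h hg)) (QuotientAddGroup.mk w)
        exact (QuotientAddGroup.eq_zero_iff _).mp (sub_eq_zero.mpr h1)
      obtain ⟨k, hk, hk1⟩ := hWnt
      rw [hσcom, top_le_iff] at hle
      exact hk1 (AddMonoidHom.ext fun w =>
        (show w ∈ Z by rw [hle]; trivial) k (Subgroup.subset_normalClosure hk))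
    have hτidx : (fix τ B).index ≤ (Subgroup.centralizer (K : Set G)).relIndex B := by
      refine le_trans ?_ hWidx
      have hle : (fix σ B).map (QuotientAddGroup.mk' Z) ≤ fix τ B := by
        rintro _ ⟨w, hw, rfl⟩ b hb
        exact congrArg QuotientAddGroup.mk (hw b hb)
      exact Nat.le_of_dvd (Nat.pos_of_ne_zero AddSubgroup.index_ne_zero_of_finite)
        ((AddSubgroup.index_dvd_of_le hle).trans
          (AddSubgroup.index_map_dvd _ (QuotientAddGroup.mk'_surjective Z)))
    have hτq : ∀ x ∈ A, B ≤ stab τ (dlt τ x).range := by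
      rintro x hx b hb _ ⟨q, rfl⟩
      obtain ⟨w, rfl⟩ := QuotientAddGroup.mk'_surjective Z q
      exact congrArg QuotientAddGroup.mk (hσq x hx hb _ ⟨w, rfl⟩)
    exact core_norm hS hL hA htop τ hAp hτnt hτcom hτfix hBA hBN (fun b hb => hτq b (hBA hb))
      ha₁ ha₁N (hτq a₁ ha₁) hτidx hc hcn
  -- step 3: induction
  set U := fix ρ B with hU
  have hBG : ∀ t ∈ B, ∀ g : G, t * g = g * t := fun t ht g => by
    have : (⊤ : Subgroup G) ≤ Subgroup.centralizer ({t} : Set G) := by
      rw [← htop, sup_le_iff]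
      refine ⟨fun k hk => Subgroup.mem_centralizer_singleton_iff.mpr ?_,
        fun x hx => Subgroup.mem_centralizer_singleton_iff.mpr (hA x hx t (hBA ht))⟩
      exact Subgroup.mem_centralizer_iff.mp (hBC ht) k hk
    exact (Subgroup.mem_centralizer_singleton_iff.mp (this (Subgroup.mem_top g))).symm
  have hUi : ∀ g : G, ∀ u ∈ U, ρ g u ∈ U := fun g u hu t ht => by
    rw [act_comm ρ (hBG t ht g), hu t ht]
  have hAU : A ≤ trivMod ρ U := fun x hx w b hb => hq x hx hb _ ⟨w, rfl⟩
  haveI : (trivMod ρ U).Normal := ⟨fun f hf g w => by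
    have e : dlt ρ (g * f * g⁻¹) w = ρ g (dlt ρ f (ρ g⁻¹ w)) := by
      simp only [dlt_apply, map_sub, act_mul, act_self_inv]
    rw [e]
    exact hUi g _ (hf _)⟩
  have hKU : K ≤ trivMod ρ U := le_of_moving hS hL ha₁ (hAU ha₁) ha₁N
  have hlt : Nat.card U < n := by
    rw [← hn]
    refine lt_of_le_of_ne (Nat.card_le_card_of_injective _ Subtype.val_injective) fun he => ?_
    have hUt : U = ⊤ := AddSubgroup.eq_top_of_card_eq U he
    have hcom0 : com ρ A = ⊥ := by
      refine eq_bot_of_le_com ρ hV hA hAp (fun x hx w hw => ?_) ?_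
      · refine AddSubgroup.closure_induction (p := fun w _ => ρ x w ∈ com ρ A) ?_ ?_ ?_ ?_ hw
        · rintro _ ⟨y, hy, v, rfl⟩
          rw [map_sub, act_comm ρ (hA x hx y hy)]
          exact sub_mem_com ρ hy _
        · simp only [map_zero]; exact (com ρ A).zero_mem
        · intro a b _ _ ha hb; rw [map_add]; exact (com ρ A).add_mem ha hb
        · intro a _ ha; rw [map_neg]; exact (com ρ A).neg_mem ha
      · conv_lhs => rw [com]
        rw [AddSubgroup.closure_le]
        rintro _ ⟨x, hx, v, rfl⟩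
        have hv : v ∈ com ρ A ⊔ fix ρ A := by rw [← hBfix, hUt]; trivial
        obtain ⟨v₁, h₁, v₂, h₂, rfl⟩ := AddSubgroup.mem_sup.mp hv
        rw [map_add, h₂ x hx, add_sub_add_right_eq_sub]
        exact AddSubgroup.subset_closure ⟨x, hx, v₁, h₁, rfl⟩
    have hker : a₁ ∈ ρ.ker := AddMonoidHom.ext fun w =>
      sub_eq_zero.mp (AddSubgroup.mem_bot.mp (hcom0.le (sub_mem_com ρ ha₁ w)))
    obtain ⟨k, hk, hk1⟩ := hnt
    exact hk1 (MonoidHom.mem_ker.mp (le_of_moving hS hL ha₁ hker ha₁N hk))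
  refine ha₁N (ih _ hlt U (subRep ρ U hUi) rfl (fun w => Subtype.ext (by simp [hV])) ?_ ?_ ha₁)
  · by_contra hcon
    push Not at hcon
    obtain ⟨k, hk, hk1⟩ := hnt
    refine hk1 (AddMonoidHom.ext fun v => ?_)
    have hLfix : L ≤ (subRep ρ U hUi).ker := Subgroup.normalClosure_le_normal fun k hk => hcon k hk
    have hLU : L ≤ trivMod ρ U := Subgroup.normalClosure_le_normal hKU
    have h0 := additive_eq_zero hL (fun g => dlt ρ g v) (fun g hg h hh => by
      have hmem : dlt ρ h v ∈ U := hLU hh v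
      have h1 := DFunLike.congr_fun (MonoidHom.mem_ker.mp (hLfix hg)) (⟨_, hmem⟩ : U)
      have : ρ g (dlt ρ h v) = dlt ρ h v := congrArg Subtype.val h1
      rw [dlt_mul, this]) (Subgroup.subset_normalClosure hk)
    exact sub_eq_zero.mp h0
  · intro C hC
    have hfixU : ∀ D : Subgroup G, Nat.card ↥(fix (subRep ρ U hUi) D) = Nat.card ↥(fix ρ (D ⊔ B)) := by
      intro D
      refine Nat.card_congr
        { toFun := fun w => ⟨(w.1 : V), ?_⟩
          invFun := fun w => ⟨⟨(w : V), ?_⟩, ?_⟩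
          left_inv := fun w => rfl
          right_inv := fun w => rfl }
      · rw [fix_sup]
        exact ⟨fun b hb => congrArg Subtype.val (w.2 b hb), w.1.2⟩
      · exact fix_anti ρ le_sup_right w.2
      · exact fun b hb => Subtype.ext (fix_anti ρ le_sup_left w.2 b hb)
    rw [meas, meas, hfixU, hfixU, sup_eq_left.mpr hBA]
    calc Nat.card C * Nat.card ↥(fix ρ (C ⊔ B)) ≤ Nat.card ↥(C ⊔ B) * Nat.card ↥(fix ρ (C ⊔ B)) :=
          Nat.mul_le_mul_right _ (Subgroup.card_le_of_le le_sup_left)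
      _ ≤ _ := hmax _ (sup_le hC hBA)

end Cfsg.Agent.Thompson.PGV
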